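import Groth.Agent.UnipConjLib.Main
import Groth.Agent.HMLib.Tangent
import Mathlib.GroupTheory.QuotientGroup.Basic

/-!
Conjugacy of liftings over an algebraically closed field.
-/

set_option autoImplicit false
set_option maxHeartbeats 800000

noncomputable section

universe u

open TensorProduct WithConv
open Groth.Agent

namespace UnipConjLib

attribute [local instance] HopfFF.pointsGroup
attribute [-instance] AlgHom.convInv AlgHom.convGroup

variable {k : Type u} [Field k]

theorem formallySmooth_of_reduced [IsAlgClosed k] (U : Type u) [CommRing U] [HopfAlgebra k U]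
    [Algebra.FiniteType k U] [_root_.IsReduced U] : Algebra.FormallySmooth k U := by
  open CategoryTheory AlgebraicGeometry in
  let G := (Spec (CommRingCat.of U)).asOver (Spec (CommRingCat.of k))
  haveI : AlgebraicGeometry.LocallyOfFiniteType G.hom :=
    (AlgebraicGeometry.HasRingHomProperty.Spec_iff (P := @AlgebraicGeometry.LocallyOfFiniteType)).mpr
      (RingHom.finiteType_algebraMap.mpr ‹Algebra.FiniteType k U›)
  haveI : AlgebraicGeometry.IsReduced G.left :=
    (AlgebraicGeometry.affine_isReduced_iff (CommRingCat.of U)).2 inferInstance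
  have h := Groth.Agent.GrpSchLib.smooth_of_isAlgClosed_of_isReduced G
  haveI : Algebra.Smooth k U := RingHom.smooth_algebraMap.mp
    ((AlgebraicGeometry.HasRingHomProperty.Spec_iff (P := @AlgebraicGeometry.Smooth)).mp h)
  infer_instance

theorem fg_of_finiteType {B : Type u} [CommRing B] [HopfAlgebra k B] [Algebra.FiniteType k B] {M : Type u}
    [CommGroup M] (e : B ≃ₐc[k] MonoidAlgebra k M) : Group.FG M :=
  MonoidAlgebra.finiteType_iff_group_fg.1 (Algebra.FiniteType.equiv ‹_› e.toAlgEquiv)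

theorem exists_exponent {M : Type u} [CommGroup M] [Group.FG M] (q : ℕ) :
    ∃ N : ℕ, ∀ (m : M) (i : ℕ), m ^ q ^ i = 1 → m ^ q ^ N = 1 := by
  haveI : Module.Finite ℤ (Additive M) := Module.Finite.iff_addGroup_fg.mpr inferInstance
  haveI : IsNoetherian ℤ (Additive M) := isNoetherian_of_isNoetherianRing_of_finite ℤ (Additive M)
  let f : ℕ →o Submodule ℤ (Additive M) :=
    { toFun := fun i => LinearMap.ker (((q ^ i : ℕ) : ℤ) • (LinearMap.id : Additive M →ₗ[ℤ] Additive M))
      monotone' := fun i j hij x hx => by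
        obtain ⟨d, rfl⟩ := Nat.exists_eq_add_of_le hij
        rw [LinearMap.mem_ker, LinearMap.smul_apply, LinearMap.id_apply] at hx ⊢
        rw [pow_add, mul_comm, Nat.cast_mul, mul_smul, hx, smul_zero] }
  obtain ⟨N, hN⟩ := monotone_stabilizes_iff_noetherian.2 ‹_› f
  refine ⟨N, fun m i hm => ?_⟩
  have h1 : Additive.ofMul m ∈ f i := by
    show ((q ^ i : ℕ) : ℤ) • Additive.ofMul m = 0
    rw [natCast_zsmul, ← ofMul_pow, hm, ofMul_one]
  have h2 : Additive.ofMul m ∈ f N := by
    rcases le_total i N with h | h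
    · exact f.monotone h h1
    · rw [hN i h]; exact h1
  have h3 : ((q ^ N : ℕ) : ℤ) • Additive.ofMul m = 0 := h2
  rw [natCast_zsmul, ← ofMul_pow] at h3
  exact Additive.ofMul.injective h3

variable {A : Type u} [CommRing A] [HopfAlgebra k A] {B : Type u} [CommRing B] [HopfAlgebra k B]

/-- Every element of the kernel has the same exponent at all points, when the kernel is reduced. -/
theorem pow_char_eq_one [IsAlgClosed k] [Algebra.FiniteType k A] (p : ℕ) [Fact p.Prime] [CharP k p] (ψ : B →ₐc[k] A)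
    (J : Ideal A) [J.IsHopfIdeal k] (hJ : J = Ideal.map (ψ : B →+* A) (RingHom.ker (Bialgebra.counitAlgHom k B)))
    [IsReduced (A ⧸ J)] (hK : ∀ u : A ⧸ J, ∃ n, u ∈ UnipHopf.K k (A ⧸ J) n) :
    ∃ N : ℕ, ∀ (T : Type u) [CommRing T] [Algebra k T], ∀ x : WithConv (A →ₐ[k] T),
      x ∈ (resHom T ψ).ker → x ^ p ^ N = 1 := by
  haveI : Algebra.FiniteType k (A ⧸ J) := Algebra.FiniteType.of_surjective (Ideal.Quotient.mkₐ k J)
    (Ideal.Quotient.mkₐ_surjective k J)
  obtain ⟨N, hN⟩ := UnipHopf.exists_pow_eq_one p hK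
  refine ⟨N, fun T _ _ x hx => ?_⟩
  let q : A →ₐc[k] A ⧸ J := Bialgebra.Quotient.mkBialgHom (R := k) J
  have huniv : (toConv (AlgHom.id k (A ⧸ J))) ^ p ^ N = 1 := by
    refine WithConv.ext (AlgHom.ext fun a => ?_)
    rw [← sub_eq_zero]
    refine IsNilpotent.eq_zero (UnipHopf.isNilpotent_of_forall_point (L := k) fun g => ?_)
    rw [map_sub, sub_eq_zero]
    have h := congrArg (fun w : WithConv (A ⧸ J →ₐ[k] k) => w.ofConv a) (hN (toConv g))
    have h2 : UnipSplit.push g (toConv (AlgHom.id k (A ⧸ J)) ^ p ^ N) = toConv g ^ p ^ N := by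
      rw [push_eval_pow, UnipSplit.push_toConv, AlgHom.comp_id]
    rw [← h2] at h
    refine h.trans ?_
    show (1 : WithConv (A ⧸ J →ₐ[k] k)) a = g ((1 : WithConv (A ⧸ J →ₐ[k] (A ⧸ J))) a)
    rw [AlgHom.convOne_apply, AlgHom.convOne_apply, AlgHom.commutes]
  let θ : (A ⧸ J) →ₐ[k] T := Ideal.Quotient.liftₐ J x.ofConv ((mem_ker_resHom_iff hJ).1 hx)
  have hxθ : x = resHom T q (toConv θ) := WithConv.ext (AlgHom.ext fun a => rfl)
  have hθ : toConv θ ^ p ^ N = 1 := by
    have h : UnipSplit.push θ (toConv (AlgHom.id k (A ⧸ J))) = toConv θ := by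
      rw [UnipSplit.push_toConv, AlgHom.comp_id]
    have hpow : ∀ n, UnipSplit.push θ (toConv (AlgHom.id k (A ⧸ J)) ^ n) = toConv θ ^ n := fun n => by
      induction n with
      | zero =>
        rw [pow_zero, pow_zero]
        exact WithConv.ext (AlgHom.ext fun a => by
          show θ ((1 : WithConv (A ⧸ J →ₐ[k] (A ⧸ J))) a) = (1 : WithConv (A ⧸ J →ₐ[k] T)) a
          rw [AlgHom.convOne_apply, AlgHom.convOne_apply, AlgHom.commutes])
      | succ n ih => rw [pow_succ, pow_succ, UnipSplit.push_mul, ih, h]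
    rw [← hpow, huniv]
    exact WithConv.ext (AlgHom.ext fun a => by
      show θ ((1 : WithConv (A ⧸ J →ₐ[k] (A ⧸ J))) a) = (1 : WithConv (A ⧸ J →ₐ[k] T)) a
      rw [AlgHom.convOne_apply, AlgHom.convOne_apply, AlgHom.commutes])
  rw [hxθ, ← map_pow, hθ, map_one]

/-- Conjugacy over an algebraically closed field when the kernel is smooth, in positive characteristic. -/
theorem conj_of_smooth_kernel [IsAlgClosed k] [Algebra.FiniteType k A] {M : Type u} [CommGroup M] [Group.FG M]
    (e : B ≃ₐc[k] MonoidAlgebra k M) (p : ℕ) [Fact p.Prime] [CharP k p] (ψ : B →ₐc[k] A) (J : Ideal A)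
    [J.IsHopfIdeal k] (hJ : J = Ideal.map (ψ : B →+* A) (RingHom.ker (Bialgebra.counitAlgHom k B)))
    (hK : ∀ u : A ⧸ J, ∃ n, u ∈ UnipHopf.K k (A ⧸ J) n) [IsReduced (A ⧸ J)]
    (r' r'' : A →ₐc[k] B) (hr' : r'.comp ψ = BialgHom.id k B) (hr'' : r''.comp ψ = BialgHom.id k B) :
    ∃ u ∈ (resHom k ψ).ker, Conj u r' r'' := by
  classical
  haveI : ExpChar k p := ExpChar.prime Fact.out
  haveI : Algebra.FiniteType k (A ⧸ J) := Algebra.FiniteType.of_surjective (Ideal.Quotient.mkₐ k J)
    (Ideal.Quotient.mkₐ_surjective k J)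
  haveI : Algebra.FormallySmooth k (A ⧸ J) := formallySmooth_of_reduced (A ⧸ J)
  obtain ⟨N, hN⟩ := exists_exponent (M := M) p
  let H : Subgroup M := (powMonoidHom (p ^ N)).range
  let π : M →* M ⧸ H := QuotientGroup.mk' H
  have hπ : ∀ (m : M) (i : ℕ), m ^ p ^ i = 1 → π m = 1 → m = 1 := fun m i hm hm' => by
    obtain ⟨y, rfl⟩ := (QuotientGroup.eq_one_iff m).1 hm'
    change (y ^ p ^ N) ^ p ^ i = 1 at hm
    rw [← pow_mul, ← pow_add] at hm
    exact hN y _ hm
  have hP : ∀ g : M ⧸ H, ∃ i : ℕ, g ^ p ^ i = 1 := fun g => by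
    induction g using QuotientGroup.induction_on with
    | H m =>
      refine ⟨N, ?_⟩
      rw [← QuotientGroup.mk_pow, QuotientGroup.eq_one_iff]
      exact ⟨m, rfl⟩
  let pr : B →ₐc[k] MonoidAlgebra k (M ⧸ H) := projP e π
  let incl : MonoidAlgebra k H →ₐc[k] B :=
    (e.symm : MonoidAlgebra k M →ₐc[k] B).comp (MonoidAlgebra.mapDomainBialgHom k H.subtype)
  let φ : MonoidAlgebra k H →ₐc[k] A := ψ.comp incl
  let I : Ideal A := Ideal.map (φ : MonoidAlgebra k H →+* A) (RingHom.ker (Bialgebra.counitAlgHom k _))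
  haveI : I.IsHopfIdeal k := UnipSplit.isHopfIdeal_map φ
  let qI : A →ₐc[k] A ⧸ I := Bialgebra.Quotient.mkBialgHom (R := k) I
  -- the kernel of the projection
  have hprincl : ∀ z, pr (incl z) = algebraMap k _ (CoalgebraStruct.counit (R := k) z) := fun z => by
    induction z using MonoidAlgebra.induction_linear with
    | zero => simp
    | add x y hx hy => rw [map_add, map_add, map_add, map_add, hx, hy]
    | single h r =>
      have h1 : π (h : M) = 1 := (QuotientGroup.eq_one_iff _).2 h.2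
      simp [pr, incl, projP, h1]
  have hkill : ∀ z, qI (ψ (incl z)) = algebraMap k _ (CoalgebraStruct.counit (R := k) z) := fun z => by
    show Ideal.Quotient.mk I (φ z) = _
    rw [← Ideal.Quotient.mk_algebraMap, Ideal.Quotient.eq,
      ← AlgHomClass.commutes φ (CoalgebraStruct.counit (R := k) z), ← map_sub]
    exact Ideal.mem_map_of_mem (φ : MonoidAlgebra k H →+* A) (RingHom.mem_ker.2 (by simp))
  have hsec : ∀ z : MonoidAlgebra k M, qI (ψ (e.symm z)) =
      qI (ψ (e.symm (MonoidAlgebra.mapDomain Quotient.out (MonoidAlgebra.mapDomain π z)))) := fun z => by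
    induction z using MonoidAlgebra.induction_linear with
    | zero => simp
    | add x y hx hy =>
      rw [MonoidAlgebra.mapDomain_add, MonoidAlgebra.mapDomain_add, map_add, map_add, map_add, map_add, map_add,
        map_add, hx, hy]
    | single m r =>
      rw [MonoidAlgebra.mapDomain_single, MonoidAlgebra.mapDomain_single]
      set m' := Quotient.out (π m)
      have hmem : m'⁻¹ * m ∈ H := QuotientGroup.eq.1 (QuotientGroup.out_eq' (π m))
      have h1 : e.symm (MonoidAlgebra.single m r) =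
          e.symm (MonoidAlgebra.single m' r) * incl (MonoidAlgebra.single ⟨_, hmem⟩ (1 : k)) := by
        show _ = _ * e.symm (MonoidAlgebra.mapDomainBialgHom k H.subtype _)
        rw [← map_mul]
        simp [MonoidAlgebra.single_mul_single]
      rw [h1, map_mul, map_mul, hkill]
      simp
  have hfac : ∀ b, pr b = 0 → (qI.comp ψ) b = 0 := fun b hb => by
    have h := hsec (e b)
    rw [e.symm_apply_apply] at h
    have h2 : MonoidAlgebra.mapDomain π (e b) = 0 := hb
    rw [h2, MonoidAlgebra.mapDomain_zero, map_zero, map_zero, map_zero] at h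
    exact h
  have hprsurj : Function.Surjective pr := fun z => by
    refine ⟨e.symm (MonoidAlgebra.mapDomain Quotient.out z), ?_⟩
    show MonoidAlgebra.mapDomain π (e (e.symm _)) = z
    rw [e.apply_symm_apply]
    induction z using MonoidAlgebra.induction_linear with
    | zero => simp
    | add x y hx hy => rw [MonoidAlgebra.mapDomain_add, MonoidAlgebra.mapDomain_add, hx, hy]
    | single g r =>
      rw [MonoidAlgebra.mapDomain_single, MonoidAlgebra.mapDomain_single, show π (Quotient.out g) = g from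
        QuotientGroup.out_eq' g]
  -- the extension of the infinitesimal part
  have hq : ∀ {C : Type u} [CommRing C] [HopfAlgebra k C] (f : B →ₐc[k] C) (a : B),
      (f : B →ₐ[k] C) a = f a := fun f a => rfl
  obtain ⟨ψ₁, hψ₁⟩ : ∃ ψ₁ : MonoidAlgebra k (M ⧸ H) →ₐc[k] A ⧸ I, ψ₁.comp pr = qI.comp ψ := by
    let f : MonoidAlgebra k (M ⧸ H) →ₐ[k] A ⧸ I :=
      AlgHom.liftOfSurjective (pr : B →ₐ[k] MonoidAlgebra k (M ⧸ H)) hprsurj
        ((qI.comp ψ : B →ₐc[k] A ⧸ I) : B →ₐ[k] A ⧸ I) (fun b hb => RingHom.mem_ker.2 (hfac b hb))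
    have hf : ∀ b, f (pr b) = (qI.comp ψ) b := fun b =>
      AlgHom.congr_fun (AlgHom.liftOfSurjective_comp (pr : B →ₐ[k] MonoidAlgebra k (M ⧸ H)) hprsurj
        ((qI.comp ψ : B →ₐc[k] A ⧸ I) : B →ₐ[k] A ⧸ I) (fun b hb => RingHom.mem_ker.2 (hfac b hb))) b
    refine ⟨BialgHom.ofAlgHom f (AlgHom.ext fun x => ?_) (AlgHom.ext fun x => ?_), BialgHom.ext hf⟩
    · obtain ⟨b, rfl⟩ := hprsurj x
      show CoalgebraStruct.counit (R := k) (f (pr b)) = CoalgebraStruct.counit (R := k) (pr b)
      rw [hf, CoalgHomClass.counit_comp_apply, CoalgHomClass.counit_comp_apply]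
    · obtain ⟨b, rfl⟩ := hprsurj x
      show Algebra.TensorProduct.map f f (CoalgebraStruct.comul (R := k) (pr b)) =
        CoalgebraStruct.comul (R := k) (f (pr b))
      rw [hf, ← CoalgHomClass.map_comp_comul_apply pr, ← CoalgHomClass.map_comp_comul_apply (qI.comp ψ)]
      generalize CoalgebraStruct.comul (R := k) b = z
      induction z using TensorProduct.induction_on with
      | zero => simp
      | add x y hx hy => simp only [map_add, hx, hy]
      | tmul x y => exact congrArg₂ (· ⊗ₜ[k] ·) (hf x) (hf y)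
  let J₁ : Ideal (A ⧸ I) := Ideal.map (ψ₁ : MonoidAlgebra k (M ⧸ H) →+* A ⧸ I) (RingHom.ker (Bialgebra.counitAlgHom k _))
  haveI : J₁.IsHopfIdeal k := UnipSplit.isHopfIdeal_map ψ₁
  have hJ₁ : J₁ = Ideal.map (qI.comp ψ : B →+* A ⧸ I) (RingHom.ker (Bialgebra.counitAlgHom k B)) := by
    rw [← hψ₁]
    have h1 : RingHom.ker (Bialgebra.counitAlgHom k (MonoidAlgebra k (M ⧸ H))) =
        Ideal.map (pr : B →+* MonoidAlgebra k (M ⧸ H)) (RingHom.ker (Bialgebra.counitAlgHom k B)) := by
      refine le_antisymm (fun x hx => ?_) (Ideal.map_le_iff_le_comap.2 fun b hb => ?_)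
      · obtain ⟨b, rfl⟩ := hprsurj x
        refine Ideal.mem_map_of_mem (pr : B →+* MonoidAlgebra k (M ⧸ H)) (RingHom.mem_ker.2 ?_)
        show CoalgebraStruct.counit (R := k) b = 0
        rw [← CoalgHomClass.counit_comp_apply pr]
        exact hx
      · show CoalgebraStruct.counit (R := k) (pr b) = 0
        rw [CoalgHomClass.counit_comp_apply]
        exact hb
    show Ideal.map _ _ = _
    rw [h1, Ideal.map_map]
    rfl
  have hsm₁ : Algebra.FormallySmooth k ((A ⧸ I) ⧸ J₁) := by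
    rw [hJ₁]
    refine smooth_quot_quot ψ J hJ I ?_
    have hIJ : I.map (Ideal.Quotient.mkₐ k J) = Ideal.span {(0 : A ⧸ J)} := by
      rw [Ideal.span_singleton_eq_bot.2 rfl, eq_bot_iff, Ideal.map_le_iff_le_comap, Ideal.map_le_iff_le_comap]
      intro z hz
      show Ideal.Quotient.mk J (ψ (incl z)) = 0
      rw [Ideal.Quotient.eq_zero_iff_mem, hJ]
      refine Ideal.mem_map_of_mem (ψ : B →+* A) (RingHom.mem_ker.2 ?_)
      show CoalgebraStruct.counit (R := k) (incl z) = 0
      rw [CoalgHomClass.counit_comp_apply]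
      exact hz
    rw [hIJ]
    exact formallySmooth_quot_idem IsIdempotentElem.zero
  have hIr : ∀ r : A →ₐc[k] B, r.comp ψ = BialgHom.id k B → ∀ a, qI a = 0 → (pr.comp r) a = 0 := fun r hr a ha => by
    have hle : I ≤ RingHom.ker (pr.comp r : A →+* MonoidAlgebra k (M ⧸ H)) := Ideal.map_le_iff_le_comap.2 fun z hz => by
      show pr (r (ψ (incl z))) = 0
      rw [show r (ψ (incl z)) = incl z from DFunLike.congr_fun hr _, hprincl,
        show CoalgebraStruct.counit (R := k) z = 0 from hz, map_zero]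
    exact hle (Ideal.Quotient.eq_zero_iff_mem.1 ha)
  obtain ⟨t', ht'⟩ := exists_factor qI Ideal.Quotient.mk_surjective (pr.comp r') (hIr r' hr')
  obtain ⟨t'', ht''⟩ := exists_factor qI Ideal.Quotient.mk_surjective (pr.comp r'') (hIr r'' hr'')
  have hret : ∀ (r : A →ₐc[k] B) (t : A ⧸ I →ₐc[k] MonoidAlgebra k (M ⧸ H)), r.comp ψ = BialgHom.id k B →
      t.comp qI = pr.comp r → t.comp ψ₁ = BialgHom.id k _ := fun r t hr ht => BialgHom.ext fun z => by
    obtain ⟨b, rfl⟩ := hprsurj z
    show t (ψ₁ (pr b)) = pr b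
    rw [show ψ₁ (pr b) = qI (ψ b) from DFunLike.congr_fun hψ₁ b,
      show t (qI (ψ b)) = pr (r (ψ b)) from DFunLike.congr_fun ht _, show r (ψ b) = b from DFunLike.congr_fun hr b]
  obtain ⟨f, hf, -⟩ := exists_kernel_map qI Ideal.Quotient.mk_surjective ψ J J₁ hJ hJ₁
  obtain ⟨w, hw, hconj⟩ := conj_infinitesimal (p := p) (BialgEquiv.refl k (MonoidAlgebra k (M ⧸ H))) hP ψ₁ J₁ rfl
    (exhaustive_quot hf hK) hsm₁ t' t'' (hret r' t' hr' ht') (hret r'' t'' hr'' ht'')
  let u₁ := resHom k qI w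
  have hu₁ : u₁ ∈ (resHom k ψ).ker := by
    have h : resHom k ψ u₁ = resHom k pr (resHom k ψ₁ w) := WithConv.ext (AlgHom.ext fun b => by
      show w.ofConv (qI (ψ b)) = w.ofConv (ψ₁ (pr b))
      exact congrArg w.ofConv (DFunLike.congr_fun hψ₁ b).symm)
    rw [MonoidHom.mem_ker, h, show resHom k ψ₁ w = 1 from hw, map_one]
  have h₁ : Conj u₁ (pr.comp r') (pr.comp r'') := by
    rw [← ht', ← ht'']
    exact conj_of_quot qI hconj
  obtain ⟨N', hN'⟩ := pow_char_eq_one p ψ J hJ hK
  refine conj_aux e p ψ J hJ hK π hπ r' r'' hr' hr'' u₁ hu₁ h₁.symm fun n hn x hx hc => ?_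
  set X := cstHom (MonoidAlgebra k (M ⧸ H)) x with hX
  set P'' := resHom (MonoidAlgebra k (M ⧸ H)) r'' (toConv (projP e π : B →ₐ[k] MonoidAlgebra k (M ⧸ H)))
  have hxp : X ^ p ^ N' = 1 := by
    refine hN' _ X ?_
    rw [MonoidHom.mem_ker, hX, resHom_cstHom, show resHom k ψ x = 1 from hx, map_one]
  have hco : (p ^ N').Coprime n := Nat.Coprime.pow_left N'
    ((Nat.Prime.coprime_iff_not_dvd Fact.out).2 fun hdvd => hn (by rwa [CharP.cast_eq_zero_iff k p]))
  have h1 := Nat.gcd_eq_gcd_ab (p ^ N') n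
  rw [hco] at h1
  have h2 : X = (X ^ n) ^ Nat.gcdB (p ^ N') n := by
    have h3 : X ^ ((1 : ℕ) : ℤ) = X := by rw [zpow_natCast, pow_one]
    rw [h1, zpow_add, zpow_mul, zpow_natCast, hxp, one_zpow, one_mul, zpow_mul, zpow_natCast] at h3
    exact h3.symm
  rw [map_pow] at hc
  rw [h2]
  exact hc.zpow_left _

/-- Two liftings over an algebraically closed field are conjugate. -/
theorem retractions_conj [IsAlgClosed k] [Algebra.FiniteType k A] [Algebra.FiniteType k B] (hB : SGA3b.IsDiag k B)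
    (ψ : B →ₐc[k] A) (J : Ideal A) [J.IsHopfIdeal k]
    (hJ : J = Ideal.map (ψ : B →+* A) (RingHom.ker (Bialgebra.counitAlgHom k B)))
    (hU : HopfRep.IsUnipotent k (A ⧸ J)) (hsm : IsReduced B ∨ IsReduced (A ⧸ J)) (r' r'' : A →ₐc[k] B)
    (hr' : r'.comp ψ = BialgHom.id k B) (hr'' : r''.comp ψ = BialgHom.id k B) :
    ∃ u : A →ₐ[k] k, (∀ a ∈ J, u a = 0) ∧
      (r'' : A →ₐ[k] B) = Dyn.conv3 k A ((Algebra.ofId k B).comp u) (r' : A →ₐ[k] B)
        (((Algebra.ofId k B).comp u).comp (HopfAlgebra.antipodeAlgHom k A)) := by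
  obtain ⟨M, _, ⟨e⟩⟩ := hB
  haveI := fg_of_finiteType e
  have hK := UnipHopf.exhaustive_of_isUnipotent hU
  suffices h : ∃ u ∈ (resHom k ψ).ker, Conj u r' r'' by
    obtain ⟨u, hu, hc⟩ := h
    exact goal_of_conj hJ hu hc
  obtain ⟨p, hp⟩ := CharP.exists k
  rcases CharP.char_is_prime_or_zero k p with hpr | rfl
  swap
  · haveI : CharZero k := CharP.charP_to_charZero k
    exact conj_of_smooth_quotient e 1 (fun m i hm => by simpa using hm) ψ J hJ hK r' r'' hr' hr''
  haveI : Fact p.Prime := ⟨hpr⟩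
  haveI : ExpChar k p := ExpChar.prime hpr
  rcases hsm with hB' | hJ'
  · refine conj_of_smooth_quotient e p (fun m i hm => ?_) ψ J hJ hK r' r'' hr' hr''
    haveI := (Bialgebra.counitAlgHom k B).toRingHom.domain_nontrivial
    haveI : CharP B p := charP_of_injective_algebraMap (algebraMap k B).injective p
    have h : e.symm (MonoidAlgebra.single m (1 : k)) - 1 = 0 := IsNilpotent.eq_zero ⟨p ^ i, by
      rw [sub_pow_char_pow, one_pow, ← map_pow, MonoidAlgebra.single_pow, hm, one_pow, ← MonoidAlgebra.one_def,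
        map_one, sub_self]⟩
    rw [sub_eq_zero, ← map_one e.symm] at h
    exact MonoidAlgebra.single_left_injective one_ne_zero
      ((EquivLike.injective e.symm h).trans MonoidAlgebra.one_def)
  · exact conj_of_smooth_kernel e p ψ J hJ hK r' r'' hr' hr''

end UnipConjLib
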