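import Groth.Agent.UnipConjLib.Inner
import Groth.Agent.HopfFFLib.Idem
import Groth.Agent.HopfFFLib.Nilradical
import Groth.Agent.MultNhdLib.Coord
import Groth.Agent.LieKolchinLib.DimOne
import Mathlib.RingTheory.Smooth.Basic
import Mathlib.RingTheory.Idempotents

/-!
The identity component of an infinitesimal-by-smooth group, and smoothness of kernels of additive characters.
-/

set_option autoImplicit false

noncomputable section

universe u

open TensorProduct WithConv
open Groth.Agent

namespace UnipConjLib

attribute [local instance] HopfFF.pointsGroup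

variable {k : Type u} [Field k] {A : Type u} [CommRing A] [HopfAlgebra k A]

theorem formallySmooth_quot_idem [Algebra.FormallySmooth k A] {e : A} (he : IsIdempotentElem e) :
    Algebra.FormallySmooth k (A ⧸ Ideal.span {e}) := by
  let f : A →ₐ[k] A ⧸ Ideal.span {e} := Ideal.Quotient.mkₐ k _
  have hker : RingHom.ker f.toRingHom = Ideal.span {e} := Ideal.mk_ker
  have hsq : RingHom.ker f.toRingHom ^ 2 = Ideal.span {e} := by
    rw [hker, pow_two, Ideal.span_singleton_mul_span_singleton, he.eq]
  refine Algebra.FormallySmooth.of_split f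
    (Ideal.Quotient.liftₐ _ (Ideal.Quotient.mkₐ k _) fun a ha => Ideal.Quotient.eq_zero_iff_mem.2 (hsq.ge ha)) ?_
  refine AlgHom.ext fun x => ?_
  obtain ⟨a, rfl⟩ := Ideal.Quotient.mk_surjective x
  rfl

/-- A hypersurface cut by a function with invertible derivative is smooth. -/
theorem formallySmooth_quot_of_derivation [Algebra.FormallySmooth k A] {x : A} (D : Derivation k A A) (hD : D x = 1) :
    Algebra.FormallySmooth k (A ⧸ Ideal.span {x}) := by
  let A' := A ⧸ Ideal.span {x}
  have hsurj : Function.Surjective (algebraMap A A') := Ideal.Quotient.mk_surjective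
  refine (Algebra.FormallySmooth.iff_split_injection (R := k) (P := A) (A := A') hsurj).2 ?_
  have hker : RingHom.ker (algebraMap A A') = Ideal.span {x} := Ideal.mk_ker
  have hxk : x ∈ RingHom.ker (algebraMap A A') := hker.ge (Ideal.mem_span_singleton_self x)
  set c := (RingHom.ker (algebraMap A A')).toCotangent ⟨x, hxk⟩ with hc
  let toC : A' →ₗ[A] (RingHom.ker (algebraMap A A')).Cotangent :=
    Submodule.liftQ _ (LinearMap.toSpanSingleton A _ c) fun a ha => by
      rw [LinearMap.mem_ker, LinearMap.toSpanSingleton_apply, hc, ← map_smul, Ideal.toCotangent_eq_zero, pow_two]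
      exact Ideal.mul_mem_mul (hker.ge ha) hxk
  refine ⟨toC ∘ₗ (TensorProduct.rid A A').toLinearMap ∘ₗ LinearMap.lTensor A' D.liftKaehlerDifferential, ?_⟩
  refine LinearMap.ext fun z => ?_
  obtain ⟨⟨y, hy⟩, rfl⟩ := Ideal.toCotangent_surjective _ z
  obtain ⟨r, rfl⟩ := Ideal.mem_span_singleton'.1 (hker.le hy)
  show toC (TensorProduct.rid A A' (LinearMap.lTensor A' D.liftKaehlerDifferential
    ((1 : A') ⊗ₜ[A] KaehlerDifferential.D k A (r * x)))) = _
  rw [LinearMap.lTensor_tmul, Derivation.liftKaehlerDifferential_comp_D, TensorProduct.rid_tmul, D.leibniz, hD,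
    smul_eq_mul, mul_one, add_smul, map_add,
    show (x • D r) • (1 : A') = 0 from by
      rw [smul_eq_mul, Algebra.smul_def, mul_one]
      exact Ideal.Quotient.eq_zero_iff_mem.2 (Ideal.mul_mem_right _ _ (Ideal.mem_span_singleton_self x)),
    map_zero, add_zero, LinearMap.id_apply]
  show toC (r • Submodule.Quotient.mk (1 : A)) = _
  rw [map_smul]
  show r • ((1 : A) • c) = _
  rw [one_smul, hc, ← map_smul]
  rfl

/-- The identity component over an algebraically closed field. -/
theorem exists_component [IsAlgClosed k] [Algebra.FiniteType k A] :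
    ∃ e : A, IsIdempotentElem e ∧ CoalgebraStruct.counit (R := k) e = 1 ∧ (Ideal.span {1 - e}).IsHopfIdeal k ∧
      ∀ f : A, IsIdempotentElem f → CoalgebraStruct.counit (R := k) f = 1 → e * f = e := by
  classical
  haveI : IsNoetherianRing A := Algebra.FiniteType.isNoetherianRing k A
  let S := (HopfFF.finite_idempotents A).toFinset.filter fun f => Bialgebra.counitAlgHom k A f = 1
  let e := ∏ f ∈ S, f
  have he : IsIdempotentElem e := by
    show _ * _ = _
    rw [← Finset.prod_mul_distrib]
    exact Finset.prod_congr rfl fun f hf =>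
      (Set.Finite.mem_toFinset (HopfFF.finite_idempotents A)).1 (Finset.mem_filter.1 hf).1
  have hεe : Bialgebra.counitAlgHom k A e = 1 := by
    rw [map_prod]
    exact Finset.prod_eq_one fun f hf => (Finset.mem_filter.1 hf).2
  have hmin : ∀ f : A, IsIdempotentElem f → Bialgebra.counitAlgHom k A f = 1 → e * f = e := fun f hf hεf => by
    have hfS : f ∈ S := Finset.mem_filter.2 ⟨(Set.Finite.mem_toFinset _).2 hf, hεf⟩
    show (∏ g ∈ S, g) * f = ∏ g ∈ S, g
    rw [← Finset.mul_prod_erase S (fun g => g) hfS, mul_comm f, mul_assoc, hf.eq]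
  -- points
  have hone : ∀ g : WithConv (A →ₐ[k] k), g.ofConv e = 0 ∨ g.ofConv e = 1 := fun g =>
    IsIdempotentElem.iff_eq_zero_or_one.1 (he.map g.ofConv)
  have hmul : ∀ g h : WithConv (A →ₐ[k] k), g.ofConv e = 1 → h.ofConv e = 1 → (g * h).ofConv e = 1 := by
    intro g h hg hh
    let τ : A →ₐ[k] A := (toConv (AlgHom.id k A) * cstHom A h).ofConv
    have hτ : ∀ (T : WithConv (A →ₐ[k] k)), T.ofConv (τ e) = (T * h).ofConv e := fun T => by
      have : UnipSplit.push T.ofConv (toConv (AlgHom.id k A) * cstHom A h) = T * h := by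
        rw [UnipSplit.push_mul, push_cstHom, cstHom_self, UnipSplit.push_toConv, AlgHom.comp_id]
      exact congrArg (fun w : WithConv (A →ₐ[k] k) => w.ofConv e) this
    have hετ : Bialgebra.counitAlgHom k A (τ e) = 1 := by
      have h1 : toConv (Bialgebra.counitAlgHom k A) = (1 : WithConv (A →ₐ[k] k)) :=
        WithConv.ext (AlgHom.ext fun a => by
          show CoalgebraStruct.counit (R := k) a = (1 : WithConv (A →ₐ[k] k)) a
          rw [AlgHom.convOne_apply]
          rfl)
      have h2 := hτ (toConv (Bialgebra.counitAlgHom k A))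
      rw [ofConv_toConv, h1, one_mul, hh] at h2
      exact h2
    have h3 := congrArg g.ofConv (hmin _ (he.map τ) hετ)
    rw [map_mul, hg, one_mul, hτ] at h3
    exact h3
  refine ⟨e, he, hεe, MultNhd.isHopfIdeal_span_idempotent ?_ ?_ ?_, hmin⟩
  · show Bialgebra.counitAlgHom k A (1 - e) = 0
    rw [map_sub, map_one, hεe, sub_self]
  · rw [sub_sub_cancel]
    set z := Coalgebra.comul (R := k) (1 - e) * (e ⊗ₜ[k] e)
    have hz : IsIdempotentElem z := by
      have h1 : IsIdempotentElem (e ⊗ₜ[k] e) := by
        show _ * _ = _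
        rw [Algebra.TensorProduct.tmul_mul_tmul, he.eq]
      exact (he.one_sub.map (Bialgebra.comulAlgHom k A)).mul h1
    refine hz.eq_zero_of_isNilpotent ?_
    haveI : Algebra.FiniteType k (A ⊗[k] A) := Algebra.FiniteType.trans (S := A) inferInstance inferInstance
    refine UnipHopf.isNilpotent_of_forall_point (L := k) fun P => ?_
    let g : WithConv (A →ₐ[k] k) := toConv (P.comp Algebra.TensorProduct.includeLeft)
    let h : WithConv (A →ₐ[k] k) := toConv (P.comp Algebra.TensorProduct.includeRight)
    have hP : ∀ a, P (CoalgebraStruct.comul (R := k) a) = (g * h).ofConv a := fun a => by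
      have h1 : UnipSplit.push P (toConv (Bialgebra.comulAlgHom k A)) = g * h := by
        rw [UnipSplit.toConv_comul A, UnipSplit.push_mul]
        rfl
      exact congrArg (fun w : WithConv (A →ₐ[k] k) => w.ofConv a) h1
    have hP2 : P (e ⊗ₜ[k] e) = g.ofConv e * h.ofConv e := by
      show _ = P _ * P _
      rw [← map_mul]
      simp
    rw [map_mul, show Coalgebra.comul (R := k) (1 - e) = CoalgebraStruct.comul (R := k) (1 - e) from rfl, hP, hP2,
      map_sub, map_one]
    rcases hone g with hg | hg
    · rw [hg, zero_mul, mul_zero]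
    rcases hone h with hh | hh
    · rw [hh, mul_zero, mul_zero]
    rw [hmul g h hg hh, sub_self, zero_mul]
  · rw [sub_sub_cancel]
    show HopfAlgebra.antipodeAlgHom k A (1 - e) * e = 0
    rw [map_sub, map_one, sub_mul, one_mul, mul_comm, hmin _ (he.map _) ?_, sub_self]
    show CoalgebraStruct.counit (R := k) (HopfAlgebraStruct.antipode (R := k) e) = 1
    rw [HopfAlgebra.counit_antipode]
    exact hεe

end UnipConjLib
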