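import Groth.Agent.HopfFFLib.FrobHopf
import Groth.Agent.HopfFFLib.Nilradical
import Groth.Agent.UnipSplitLib.Main
import Groth.Agent.UnipHopfLib.Primitive
import Groth.Agent.ComodLib.Slices
import Mathlib.RingTheory.Bialgebra.Hom
import Mathlib.RingTheory.FiniteType
import Mathlib.RingTheory.Ideal.Maps

/-!
Primitive elements without linear term are `p`-th powers.
-/

set_option autoImplicit false

noncomputable section

universe u

open TensorProduct MvPolynomial
open Groth.Agent Groth.Agent.GrpSchLib.HopfRed

namespace UnipConjLib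

variable {k : Type u} [Field k] {U : Type u} [CommRing U] [HopfAlgebra k U]

theorem exists_invariant_derivation (v : (augI k U).Cotangent →ₗ[k] k) :
    ∃ D : Derivation k U U, (∀ a, cou (k := k) (D a) = v (cotProj k U a)) ∧
      ∀ x, CoalgebraStruct.comul (R := k) x = x ⊗ₜ[k] (1 : U) + (1 : U) ⊗ₜ[k] x →
        D x = algebraMap k U (v (cotProj k U x)) := by
  let w : U →ₗ[k] k := v ∘ₗ cotProj k U
  have hw : ∀ a b, w (a * b) = cou (k := k) a * w b + cou (k := k) b * w a := fun a b => by
    show v (cotProj k U (a * b)) = _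
    rw [cotProj_mul, map_add, map_smul, map_smul]
    rfl
  let L : U →ₗ[k] U := ComodLib.slice w ∘ₗ CoalgebraStruct.comul
  let θ : U ⊗[k] U →ₐ[k] U :=
    (Algebra.TensorProduct.rid k k U).toAlgHom.comp
      (Algebra.TensorProduct.map (AlgHom.id k U) (Bialgebra.counitAlgHom k U))
  have hθ : ∀ a : U, θ (CoalgebraStruct.comul (R := k) a) = a := fun a => by
    have h : ∀ z : U ⊗[k] U, θ z =
        TensorProduct.rid k U (LinearMap.lTensor U (CoalgebraStruct.counit (R := k)) z) := fun z => by
      induction z using TensorProduct.induction_on with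
      | zero => simp
      | add x y hx hy => simp only [map_add, hx, hy]
      | tmul x y => simp [θ]
    rw [h, Coalgebra.lTensor_counit_comul, TensorProduct.rid_tmul, one_smul]
  have hmul : ∀ z z' : U ⊗[k] U, ComodLib.slice w (z * z') =
      θ z * ComodLib.slice w z' + θ z' * ComodLib.slice w z := fun z z' => by
    induction z using TensorProduct.induction_on with
    | zero => simp
    | add x y hx hy => simp only [add_mul, map_add, hx, hy]; ring
    | tmul a b =>
      induction z' using TensorProduct.induction_on with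
      | zero => simp
      | add x y hx hy => simp only [mul_add, map_add, hx, hy]; ring
      | tmul c d =>
        rw [Algebra.TensorProduct.tmul_mul_tmul, ComodLib.slice_tmul, ComodLib.slice_tmul, ComodLib.slice_tmul, hw]
        simp [θ, Algebra.smul_def]
        ring
  have h1 : w 1 = 0 := by
    have h := hw 1 1
    simpa using h
  refine ⟨Derivation.mk' L fun a b => ?_, fun a => ?_, fun x hx => ?_⟩
  · show ComodLib.slice w (CoalgebraStruct.comul (R := k) (a * b)) = _
    rw [Bialgebra.comul_mul, hmul]
    show θ (CoalgebraStruct.comul (R := k) a) * _ + θ (CoalgebraStruct.comul (R := k) b) * _ = _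
    rw [hθ, hθ, smul_eq_mul, smul_eq_mul]
    rfl
  · show cou (k := k) (ComodLib.slice w (CoalgebraStruct.comul (R := k) a)) = w a
    have h : ∀ z : U ⊗[k] U, cou (k := k) (ComodLib.slice w z) =
        w (TensorProduct.lid k U (LinearMap.rTensor U (CoalgebraStruct.counit (R := k)) z)) := fun z => by
      induction z using TensorProduct.induction_on with
      | zero => simp
      | add x y hx hy => simp only [map_add, hx, hy]
      | tmul x y => simp [mul_comm]
    rw [h, Coalgebra.rTensor_counit_comul, TensorProduct.lid_tmul, one_smul]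
  · show ComodLib.slice w (CoalgebraStruct.comul (R := k) x) = _
    rw [hx, map_add, ComodLib.slice_tmul, ComodLib.slice_tmul, h1, zero_smul, zero_add,
      Algebra.algebraMap_eq_smul_one]
    rfl

/-- A primitive element without linear term lies in the ideal of `p`-th powers. -/
theorem mem_pthIdeal_of_primitive [Algebra.FiniteType k U] (p : ℕ) [Fact p.Prime] [CharP k p] {x : U}
    (hx : CoalgebraStruct.comul (R := k) x = x ⊗ₜ[k] (1 : U) + (1 : U) ⊗ₜ[k] x) (h2 : x ∈ augI k U ^ 2) :
    x ∈ HopfFF.pthIdeal k U p := by
  classical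
  haveI : IsNoetherianRing U := Algebra.FiniteType.isNoetherianRing k U
  haveI hU : CharP U p := by
    haveI := (Bialgebra.counitAlgHom k U).toRingHom.domain_nontrivial
    exact charP_of_injective_algebraMap (algebraMap k U).injective p
  haveI : Module.Finite k (augI k U).Cotangent := finite_cotangent (B := U) (k := k)
  let b := Module.finBasis k (augI k U).Cotangent
  choose y hy using fun i => Ideal.toCotangent_surjective (augI k U) (b i)
  let z : Fin _ → U := fun i => (y i : U)
  have hz : ∀ i, z i ∈ augI k U := fun i => (y i).2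
  have hzb : ∀ i, cotProj k U (z i) = b i := fun i => by rw [cotProj_of_mem (hz i)]; exact hy i
  set Q := HopfFF.pthIdeal k U p
  have hcot : cotProj k U x = 0 := by
    rw [cotProj_of_mem (Ideal.pow_le_self two_ne_zero h2)]
    exact (Ideal.toCotangent_eq_zero _ _).2 h2
  have key : ∀ n, 2 ≤ n → x ∈ augI k U ^ n ⊔ Q := by
    intro n hn
    induction n, hn using Nat.le_induction with
    | base => exact Submodule.mem_sup_left h2
    | succ n hn ih =>
      obtain ⟨a, ha, c, hc, hac⟩ := Submodule.mem_sup.1 ih
      obtain ⟨P, hP, hPa⟩ := exists_aeval_sub_mem b z hz hzb n a ha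
      let P' : MvPolynomial (Fin _) k :=
        ∑ d ∈ P.support with (∀ i, d i < p), monomial d (MvPolynomial.coeff d P)
      have hP' : P'.IsHomogeneous n := IsHomogeneous.sum _ _ _ fun d hd =>
        isHomogeneous_monomial _ (by
          have := hP (MvPolynomial.mem_support_iff.1 (Finset.mem_filter.1 hd).1)
          rwa [show (1 : Fin _ → ℕ) = fun _ => 1 from rfl, ← Finsupp.degree_eq_weight_one] at this)
      have hdiff : aeval z P - aeval z P' ∈ Q := by
        rw [← map_sub, show P - P' = ∑ d ∈ P.support with ¬(∀ i, d i < p), monomial d (MvPolynomial.coeff d P) by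
          rw [sub_eq_iff_eq_add, add_comm]
          show P = P' + _
          rw [show P' = _ from rfl, Finset.sum_filter_add_sum_filter_not, ← P.as_sum], map_sum]
        refine Ideal.sum_mem _ fun d hd => ?_
        obtain ⟨i, hi⟩ := not_forall.1 (Finset.mem_filter.1 hd).2
        rw [show monomial d (MvPolynomial.coeff d P) =
          monomial (d - Finsupp.single i p) (MvPolynomial.coeff d P) * MvPolynomial.X i ^ p by
          rw [X_pow_eq_monomial, monomial_mul, mul_one,
            tsub_add_cancel_of_le (Finsupp.single_le_iff.2 (by omega))], map_mul, map_pow, aeval_X]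
        exact Ideal.mul_mem_left _ _ (Ideal.subset_span ⟨z i, hz i, rfl⟩)
      have hsmall : ∀ d, MvPolynomial.coeff d P' ≠ 0 → ∀ i, d i < p := fun d hd => by
        by_contra hne
        apply hd
        show MvPolynomial.coeff d (∑ e ∈ P.support with (∀ i, e i < p), monomial e (MvPolynomial.coeff e P)) = 0
        rw [coeff_sum]
        refine Finset.sum_eq_zero fun e he => ?_
        rw [coeff_monomial, if_neg]
        rintro rfl
        exact hne (Finset.mem_filter.1 he).2
      have hxP : x - aeval z P' ∈ augI k U ^ (n + 1) ⊔ Q := by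
        rw [← hac, show a + c - aeval z P' = (a - aeval z P) + (c + (aeval z P - aeval z P')) by ring]
        exact add_mem (Submodule.mem_sup_left hPa) (Submodule.mem_sup_right (add_mem hc hdiff))
      suffices hP0 : P' = 0 by rwa [hP0, map_zero, sub_zero] at hxP
      have hd : ∀ i, pderiv i P' = 0 := by
        intro i
        obtain ⟨D, hD, hDprim⟩ := exists_invariant_derivation (U := U) (b.coord i)
        have hDx : D x = 0 := by rw [hDprim x hx, hcot, map_zero, map_zero]
        have hdelta : ∀ j, D (z j) - (if i = j then 1 else 0) ∈ augI k U := by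
          intro j
          rw [RingHom.mem_ker, map_sub, hD, hzb]
          split_ifs with h
          · subst h; simp
          · simp [Finsupp.single_apply, Ne.symm h]
        obtain ⟨n, rfl⟩ : ∃ m, n = m + 1 := ⟨n - 1, by omega⟩
        refine HopfFF.form_eq_zero b z hz hzb p n _ (by simpa using hP'.pderiv) (fun d hd j => ?_) ?_
        · rw [coeff_pderiv] at hd
          have := hsmall _ (left_ne_zero_of_mul hd) j
          have h2 : d j ≤ (d + Finsupp.single i 1 : Fin _ →₀ ℕ) j := by simp
          omega
        have h1 : D (aeval z P') ∈ augI k U ^ (n + 1) ⊔ Q := by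
          obtain ⟨u, hu, v, hv, huv⟩ := Submodule.mem_sup.1 hxP
          rw [show aeval z P' = x - (u + v) by rw [huv, sub_sub_cancel], map_sub, hDx, zero_sub, map_add]
          exact neg_mem (add_mem (Submodule.mem_sup_left (derivation_pow_succ_le D _ (n + 1) _ hu))
            (Submodule.mem_sup_right (HopfFF.derivation_pthIdeal p D _ hv)))
        rw [chain_rule] at h1
        have h2 : ∑ j, aeval z (pderiv j P') * (D (z j) - if i = j then 1 else 0)
            ∈ augI k U ^ (n + 1) ⊔ Q := by
          refine Submodule.mem_sup_left (Ideal.sum_mem _ fun j _ => ?_)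
          rw [pow_succ]
          exact Ideal.mul_mem_mul (aeval_mem_pow z _ hz (by simpa using hP'.pderiv)) (hdelta j)
        have h3 := sub_mem h1 h2
        rw [← Finset.sum_sub_distrib, Finset.sum_eq_single i] at h3
        · simpa [mul_sub] using h3
        · intro j _ hj
          simp [Ne.symm hj]
        · simp
      ext d
      rw [coeff_zero]
      by_contra hne
      have hdeg : d.degree = n := by
        have := hP' hne
        rw [Finsupp.degree_eq_weight_one]
        exact this
      obtain ⟨i, hi⟩ : ∃ i, d i ≠ 0 := by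
        by_contra h
        push Not at h
        have : d = 0 := Finsupp.ext h
        simp [this] at hdeg
        omega
      have h := congrArg (MvPolynomial.coeff (d - Finsupp.single i 1)) (hd i)
      rw [coeff_pderiv, coeff_zero, tsub_add_cancel_of_le (Finsupp.single_le_iff.2 (by omega))] at h
      have hlt := hsmall d hne i
      have hc : (((d - Finsupp.single i 1 : Fin _ →₀ ℕ) i + 1 : ℕ) : k) ≠ 0 := by
        rw [Ne, CharP.cast_eq_zero_iff k p]
        intro hdvd
        have := Nat.le_of_dvd (by omega) hdvd
        simp at this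
        omega
      push_cast at hc
      exact (mul_ne_zero hne hc) h
  obtain ⟨N, hN⟩ : ∃ N, augI k U ^ N ≤ Q := Ideal.exists_pow_le_of_le_radical_of_fg
    (fun a ha => ⟨p, Ideal.subset_span ⟨a, ha, rfl⟩⟩) (IsNoetherian.noetherian _)
  exact (sup_le hN le_rfl : augI k U ^ N ⊔ Q ≤ Q)
    (sup_le_sup_right (Ideal.pow_le_pow_right (le_max_left N 2)) Q (key (max N 2) (le_max_right N 2)))

/-- Over a perfect field a primitive element without linear term is the `p`-th power of a primitive element. -/
theorem exists_primitive_root [Algebra.FiniteType k U] [IsReduced U] (p : ℕ) [Fact p.Prime] [CharP k p]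
    [PerfectRing k p] {x : U}
    (hx : CoalgebraStruct.comul (R := k) x = x ⊗ₜ[k] (1 : U) + (1 : U) ⊗ₜ[k] x) (h2 : x ∈ augI k U ^ 2) :
    ∃ y : U, CoalgebraStruct.comul (R := k) y = y ⊗ₜ[k] (1 : U) + (1 : U) ⊗ₜ[k] y ∧ y ^ p = x := by
  haveI : ExpChar k p := ExpChar.prime Fact.out
  haveI := HopfFF.expChar_self k U p
  haveI := HopfFF.expChar_tensor k U p
  have hsub := HopfFF.isHopfSubalgebra_powSub k U p 1
  letI := HopfFF.hopfAlgebra hsub
  let ψ : ↥(HopfFF.powSub k U p 1) →ₐc[k] U := BialgHom.ofAlgHom (HopfFF.powSub k U p 1).val rfl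
    (AlgHom.ext fun b => HopfFF.map_δB hsub b)
  let J := Ideal.map (ψ : ↥(HopfFF.powSub k U p 1) →+* U)
    (RingHom.ker (Bialgebra.counitAlgHom k ↥(HopfFF.powSub k U p 1)))
  have hJ : J = HopfFF.pthIdeal k U p := by
    refine le_antisymm (Ideal.map_le_iff_le_comap.2 ?_) (Ideal.span_le.2 ?_)
    · rintro ⟨_, a, rfl⟩ hb
      refine Ideal.subset_span ⟨a, ?_, (congrArg (a ^ ·) (pow_one p)).symm⟩
      have h0 : cou (k := k) (a ^ p ^ 1) = 0 := hb
      rw [pow_one, map_pow] at h0
      exact eq_zero_of_pow_eq_zero h0
    · rintro _ ⟨y, hy, rfl⟩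
      exact Ideal.mem_map_of_mem (ψ : ↥(HopfFF.powSub k U p 1) →+* U)
        (x := ⟨y ^ p, y, by show y ^ p ^ 1 = y ^ p; rw [pow_one]⟩) ((RingHom.mem_ker (f := Bialgebra.counitAlgHom k ↥(HopfFF.powSub k U p 1))).2 (by
          show cou (k := k) (y ^ p) = 0
          rw [map_pow, RingHom.mem_ker.1 hy, zero_pow (Fact.out : p.Prime).ne_zero]))
  haveI : J.IsHopfIdeal k := by
    letI := HopfFF.hopfAlgebra hsub
    exact UnipSplit.isHopfIdeal_map ψ
  let q : U →ₐc[k] U ⧸ J := Bialgebra.Quotient.mkBialgHom (R := k) J
  have hext : UnipSplit.Ext q ψ :=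
    { surj := Ideal.Quotient.mk_surjective
      inj := Subtype.val_injective
      comp := fun b => by
        show Ideal.Quotient.mk J (ψ b) = _
        rw [← Ideal.Quotient.mk_algebraMap, Ideal.Quotient.eq,
          ← AlgHomClass.commutes ψ (CoalgebraStruct.counit (R := k) b), ← map_sub]
        exact Ideal.mem_map_of_mem (ψ : ↥(HopfFF.powSub k U p 1) →+* U)
          (x := b - algebraMap k ↥(HopfFF.powSub k U p 1) (CoalgebraStruct.counit (R := k) b))
          ((RingHom.mem_ker (f := Bialgebra.counitAlgHom k ↥(HopfFF.powSub k U p 1))).2 (by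
          rw [map_sub, AlgHom.commutes]
          exact sub_self _))
      ker := fun a ha => Ideal.Quotient.eq_zero_iff_mem.1 ha }
  obtain ⟨⟨_, y, rfl⟩, hy⟩ := hext.mem_range_of_invariant (z := x) (by
    rw [UnipSplit.lam_apply, hx, map_add, LinearMap.rTensor_tmul, LinearMap.rTensor_tmul, AlgHom.toLinearMap_apply,
      AlgHom.toLinearMap_apply, map_one]
    have h0 : (q : U →ₐ[k] U ⧸ J) x = 0 :=
      Ideal.Quotient.eq_zero_iff_mem.2 (hJ ▸ mem_pthIdeal_of_primitive p hx h2)
    rw [h0, TensorProduct.zero_tmul, zero_add])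
  replace hy : y ^ p = x := (congrArg (y ^ ·) (pow_one p)).symm.trans hy
  haveI : PerfectField k := PerfectRing.toPerfectField k p
  haveI : IsReduced (U ⊗[k] U) := HopfFF.isReduced_tensor_of_perfectField k U U
  refine ⟨y, sub_eq_zero.1 (IsNilpotent.eq_zero ⟨p, ?_⟩), hy⟩
  rw [sub_pow_expChar, add_pow_expChar, ← Bialgebra.comul_pow, hy, hx, Algebra.TensorProduct.tmul_pow,
    Algebra.TensorProduct.tmul_pow, one_pow, hy, sub_self]

end UnipConjLib
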