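import Groth.Agent.UnipConjLib.Points
import Mathlib.GroupTheory.FiniteAbelian.Basic
import Mathlib.GroupTheory.FiniteAbelian.Duality
import Mathlib.RingTheory.RootsOfUnity.AlgebraicallyClosed
import Mathlib.RingTheory.Bialgebra.MonoidAlgebra
import Mathlib.LinearAlgebra.LinearIndependent.Defs
import Mathlib.FieldTheory.LinearDisjoint
import Mathlib.GroupTheory.Perm.Cycle.Type

/-!
Torsion points of order prime to the characteristic of diagonalisable groups.
-/

set_option autoImplicit false

noncomputable section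

universe u

open TensorProduct WithConv
open Groth.Agent

namespace UnipConjLib

attribute [local instance] HopfFF.pointsGroup

variable {k : Type u} [Field k]

/-- Characters of order invertible in `k` separate modulo `p`-power torsion. -/
theorem exists_char [IsSepClosed k] {M : Type u} [CommGroup M] [Group.FG M] (q : ℕ) [ExpChar k q] {m : M}
    (hm : ∀ i : ℕ, m ^ q ^ i ≠ 1) :
    ∃ (n : ℕ) (_ : (n : k) ≠ 0) (χ : M →* kˣ), χ ^ n = 1 ∧ χ m ≠ 1 := by
  classical
  haveI : AddGroup.FG (Additive M) := inferInstance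
  obtain ⟨r, ι, _, p, hp, e, ⟨F⟩⟩ := AddCommGroup.equiv_free_prod_directSum_zmod (Additive M)
  set w := F (Additive.ofMul m) with hw
  suffices h : ∃ (n : ℕ) (_ : (n : k) ≠ 0) (f : Additive M →+ ZMod n), f (Additive.ofMul m) ≠ 0 by
    obtain ⟨n, hn, f, hf⟩ := h
    haveI : NeZero (n : k) := ⟨hn⟩
    haveI : NeZero n := ⟨fun h => hn (by rw [h, Nat.cast_zero])⟩
    haveI : HasEnoughRootsOfUnity k n := inferInstance
    haveI : HasEnoughRootsOfUnity k (Monoid.exponent (Multiplicative (ZMod n))) := by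
      rw [show Monoid.exponent (Multiplicative (ZMod n)) = n by simp [ZMod.exponent]]
      infer_instance
    let g : M →* Multiplicative (ZMod n) :=
      MonoidHom.mk' (fun x => Multiplicative.ofAdd (f (Additive.ofMul x))) fun x y => by
        rw [ofMul_mul, map_add, ofAdd_add]
    obtain ⟨φ, hφ⟩ := CommGroup.exists_apply_ne_one_of_hasEnoughRootsOfUnity (Multiplicative (ZMod n)) k
      (a := g m) (fun h1 => hf (by simpa [g] using congrArg Multiplicative.toAdd h1))
    refine ⟨n, hn, φ.comp g, MonoidHom.ext fun x => ?_, hφ⟩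
    show φ (g x) ^ n = 1
    rw [← map_pow, show g x ^ n = 1 from Multiplicative.toAdd.injective (by simp), map_one]
  have hq0 : ∀ l : ℕ, l.Prime → l ≠ q → (l : k) ≠ 0 := fun l hl hlq h => by
    rcases ‹ExpChar k q› with _ | hq
    · exact hl.ne_zero (Nat.cast_eq_zero.1 h)
    · rw [CharP.cast_eq_zero_iff k q, Nat.dvd_prime hl] at h
      rcases h with h | h
      · exact hq.ne_one h
      · exact hlq h.symm
  by_cases hfree : w.1 = 0
  · by_cases htor : ∃ i, p i ≠ q ∧ (w.2 i : ZMod (p i ^ e i)) ≠ 0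
    · obtain ⟨i, hiq, hi⟩ := htor
      refine ⟨p i ^ e i, by rw [Nat.cast_pow]; exact pow_ne_zero _ (hq0 _ (hp i) hiq), ?_⟩
      exact ⟨((DFinsupp.evalAddMonoidHom i).comp (AddMonoidHom.snd _ _)).comp F.toAddMonoidHom, hi⟩
    · exfalso
      push Not at htor
      apply hm (Finset.univ.sup e)
      apply Additive.ofMul.injective
      apply F.injective
      rw [ofMul_pow, map_nsmul, ← hw, ofMul_one, map_zero]
      refine Prod.ext (by rw [Prod.smul_fst, hfree, smul_zero, Prod.fst_zero]) (DFinsupp.ext fun i => ?_)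
      rw [Prod.smul_snd, DFinsupp.smul_apply, Prod.snd_zero, DFinsupp.zero_apply]
      by_cases hiq : p i = q
      · obtain ⟨j, hj⟩ := Nat.exists_eq_add_of_le (Finset.le_sup (f := e) (Finset.mem_univ i))
        rw [hj, pow_add, ← hiq, nsmul_eq_mul, Nat.cast_mul, ZMod.natCast_self, zero_mul, zero_mul]
      · rw [htor i hiq, smul_zero]
  · obtain ⟨j, hj⟩ : ∃ j, w.1 j ≠ 0 := by
      by_contra h
      push Not at h
      exact hfree (Finsupp.ext h)
    obtain ⟨l, hl1, hl⟩ := Nat.exists_infinite_primes (max q (w.1 j).natAbs + 1)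
    refine ⟨l, hq0 l hl (by omega), ((Int.castAddHom (ZMod l)).comp
      ((Finsupp.applyAddHom j).comp (AddMonoidHom.fst _ _))).comp F.toAddMonoidHom, ?_⟩
    show ((w.1 j : ℤ) : ZMod l) ≠ 0
    rw [Ne, ZMod.intCast_zmod_eq_zero_iff_dvd]
    intro hdvd
    have := Int.natAbs_dvd_natAbs.2 hdvd
    rw [Int.natAbs_natCast] at this
    have := Nat.le_of_dvd (Int.natAbs_pos.2 hj) this
    omega

variable {B : Type u} [CommRing B] [HopfAlgebra k B] {M : Type u} [CommGroup M] (e : B ≃ₐc[k] MonoidAlgebra k M)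

/-- A character as an algebra map. -/
def charPt (n : ℕ) : (M →* rootsOfUnity n k) →* WithConv (B →ₐ[k] k) :=
  MonoidHom.mk' (fun χ => toConv ((MonoidAlgebra.lift k k M
      ((Units.coeHom k).comp ((rootsOfUnity n k).subtype.comp χ))).comp e.toAlgEquiv.toAlgHom)) fun χ χ' => by
    refine WithConv.ext (AlgHom.ext fun b => ?_)
    obtain ⟨z, rfl⟩ : ∃ z, e.symm z = b := ⟨e b, e.symm_apply_apply b⟩
    induction z using MonoidAlgebra.induction_on with
    | of m =>
      rw [AlgHom.convMul_apply]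
      have hc : CoalgebraStruct.comul (R := k) (e.symm (MonoidAlgebra.of k M m)) =
          e.symm (MonoidAlgebra.of k M m) ⊗ₜ[k] e.symm (MonoidAlgebra.of k M m) := by
        rw [← CoalgHomClass.map_comp_comul_apply e.symm]
        simp [MonoidAlgebra.of_apply]
      rw [show Coalgebra.comul (R := k) (e.symm (MonoidAlgebra.of k M m)) = _ from hc]
      simp
    | add x y hx hy => rw [map_add, map_add, map_add, hx, hy]
    | smul r x hx => rw [map_smul, map_smul, map_smul, hx]

theorem finite_chars [Group.FG M] (n : ℕ) [NeZero n] : Finite (M →* rootsOfUnity n k) := by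
  obtain ⟨s, hs⟩ := Group.fg_def.1 ‹Group.FG M›
  refine Finite.of_injective (fun χ : M →* rootsOfUnity n k => fun i : s => χ i) fun χ χ' h => ?_
  refine MonoidHom.eq_of_eqOn_dense hs fun x hx => ?_
  exact congrFun h ⟨x, hx⟩

theorem card_chars_ne_zero [Group.FG M] {n : ℕ} (hn : (n : k) ≠ 0) [Fintype (M →* rootsOfUnity n k)] :
    ((Fintype.card (M →* rootsOfUnity n k) : ℕ) : k) ≠ 0 := fun h => by
  obtain ⟨p, hp⟩ := CharP.exists k
  rw [CharP.cast_eq_zero_iff k p] at h
  rcases CharP.char_is_prime_or_zero k p with hpr | rfl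
  · haveI : Fact p.Prime := ⟨hpr⟩
    obtain ⟨χ, hχ⟩ := exists_prime_orderOf_dvd_card p h
    apply hn
    rw [CharP.cast_eq_zero_iff k p, ← hχ]
    refine orderOf_dvd_of_pow_eq_one (MonoidHom.ext fun m => ?_)
    show χ m ^ n = 1
    exact Subtype.ext ((mem_rootsOfUnity n _).1 (χ m).2)
  · exact Fintype.card_ne_zero (Nat.eq_zero_of_zero_dvd h)

/-- The projection to the diagonalisable subgroup of `π`. -/
def projP {P : Type u} [CommGroup P] (π : M →* P) : B →ₐc[k] MonoidAlgebra k P :=
  (MonoidAlgebra.mapDomainBialgHom k π).comp (e : B →ₐc[k] MonoidAlgebra k M)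

/-- The restriction to the product of the subgroup of `π` and a torsion point. -/
def slicePt {P : Type u} [CommGroup P] (π : M →* P) {n : ℕ} (χ : M →* rootsOfUnity n k) :
    B →ₐ[k] MonoidAlgebra k P :=
  (toConv ((projP e π : B →ₐ[k] MonoidAlgebra k P)) *
    toConv ((Algebra.ofId k (MonoidAlgebra k P)).comp (charPt e n χ).ofConv)).ofConv

theorem slicePt_single {P : Type u} [CommGroup P] (π : M →* P) {n : ℕ} (χ : M →* rootsOfUnity n k) (m : M) (r : k) :
    slicePt e π χ (e.symm (MonoidAlgebra.single m r)) =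
      MonoidAlgebra.single (π m) (r * ((χ m : kˣ) : k)) := by
  show (toConv (projP e π : B →ₐ[k] MonoidAlgebra k P) *
    toConv ((Algebra.ofId k (MonoidAlgebra k P)).comp (charPt e n χ).ofConv) : WithConv (B →ₐ[k] MonoidAlgebra k P))
    (e.symm (MonoidAlgebra.single m r)) = _
  rw [AlgHom.convMul_apply,
    show Coalgebra.comul (R := k) (e.symm (MonoidAlgebra.single m r)) =
      e.symm (MonoidAlgebra.single m (1 : k)) ⊗ₜ[k] e.symm (MonoidAlgebra.single m r) by
      rw [← CoalgHomClass.map_comp_comul_apply e.symm]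
      simp]
  simp [projP, charPt]

/-- Equality can be tested on products of torsion points with a subgroup containing the `p`-primary part. -/
theorem eq_zero_of_slices [IsSepClosed k] [Group.FG M] (q : ℕ) [ExpChar k q] {P : Type u} [CommGroup P] (π : M →* P)
    (hπ : ∀ (m : M) (i : ℕ), m ^ q ^ i = 1 → π m = 1 → m = 1) {b : B}
    (h : ∀ (n : ℕ), (n : k) ≠ 0 → ∀ χ : M →* rootsOfUnity n k, slicePt e π χ b = 0) : b = 0 := by
  classical
  let X : Submonoid (M →* kˣ) :=
    { carrier := {χ | ∃ n : ℕ, (n : k) ≠ 0 ∧ χ ^ n = 1}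
      one_mem' := ⟨1, by simp, by simp⟩
      mul_mem' := by
        rintro χ χ' ⟨n, hn, hχ⟩ ⟨n', hn', hχ'⟩
        refine ⟨n * n', by rw [Nat.cast_mul]; exact mul_ne_zero hn hn', MonoidHom.ext fun m => ?_⟩
        have h1 : χ m ^ n = 1 := DFunLike.congr_fun hχ m
        have h2 : χ' m ^ n' = 1 := DFunLike.congr_fun hχ' m
        show (χ m * χ' m) ^ (n * n') = 1
        rw [mul_pow, pow_mul, h1, one_pow, one_mul, mul_comm n n', pow_mul, h2, one_pow] }
  let ev : M → (X →* k) := fun m =>
    (Units.coeHom k).comp ((MonoidHom.eval m).comp X.subtype)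
  set z := e b with hz
  suffices hz0 : z = 0 by rw [← e.symm_apply_apply b, ← hz, hz0, map_zero]
  have hsum : ∀ (n : ℕ) (χ : M →* rootsOfUnity n k), slicePt e π χ b =
      ∑ m ∈ z.coeff.support, MonoidAlgebra.single (π m) (z.coeff m * ((χ m : kˣ) : k)) := fun n χ => by
    conv_lhs => rw [← e.symm_apply_apply b, ← hz, ← MonoidAlgebra.sum_coeff_single z, Finsupp.sum, map_sum, map_sum]
    exact Finset.sum_congr rfl fun m _ => slicePt_single e π χ m _
  refine MonoidAlgebra.ext (Finsupp.ext fun m₀ => ?_)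
  let S := z.coeff.support.filter fun m => π m = π m₀
  have hinj : Function.Injective fun m : S => ev m := fun a c hac => by
    by_contra hne
    have hne' : (a : M) * (c : M)⁻¹ ≠ 1 := fun h1 => hne (Subtype.ext (mul_inv_eq_one.1 h1))
    have hπac : π ((a : M) * (c : M)⁻¹) = 1 := by
      rw [map_mul, map_inv, (Finset.mem_filter.1 a.2).2, (Finset.mem_filter.1 c.2).2, mul_inv_cancel]
    obtain ⟨n, hn, χ, hχn, hχ⟩ := exists_char (k := k) q fun i h1 => hne' (hπ _ i h1 hπac)
    apply hχ
    have h2 := DFunLike.congr_fun hac ⟨χ, n, hn, hχn⟩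
    rw [map_mul, map_inv, mul_inv_eq_one]
    exact Units.ext h2
  have hli := (linearIndependent_monoidHom X k).comp _ hinj
  rw [Fintype.linearIndependent_iff] at hli
  have hcomb : ∑ m : S, z.coeff (m : M) • (ev m : X → k) = 0 := funext fun χ => by
    obtain ⟨χ, n, hn, hχn⟩ := χ
    let χ' : M →* rootsOfUnity n k := χ.codRestrict _ fun m => by
      rw [mem_rootsOfUnity, ← MonoidHom.pow_apply, hχn, MonoidHom.one_apply]
    have h1 := congrArg (fun w : MonoidAlgebra k P => w.coeff (π m₀)) (hsum n χ')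
    simp only [h n hn χ', MonoidAlgebra.coeff_zero, Finsupp.zero_apply, MonoidAlgebra.coeff_sum,
      Finsupp.finsetSum_apply, MonoidAlgebra.coeff_single, Finsupp.single_apply] at h1
    rw [← Finset.sum_filter] at h1
    rw [Finset.sum_apply, Pi.zero_apply]
    refine Eq.trans ?_ h1.symm
    exact Finset.sum_coe_sort S (fun m => z.coeff m * ((χ' m : kˣ) : k))
  by_contra hne
  exact hne (hli _ hcomb ⟨m₀, Finset.mem_filter.2 ⟨Finsupp.mem_support_iff.2 hne, rfl⟩⟩)

end UnipConjLib
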