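import Groth.Agent.UnipConjLib.Weight
import Groth.Agent.UnipConjLib.Component
import Groth.Agent.UnipConjLib.Frobenius
import Groth.Agent.UnipConjLib.Torsion
import Groth.Agent.S9407
import Mathlib.RingTheory.Ideal.Quotient.Operations
import Mathlib.RingTheory.Filtration
import Mathlib.RingTheory.Jacobson.Ring

/-!
Retractions onto infinitesimal diagonalisable groups with smooth unipotent kernel are conjugate.
-/

set_option autoImplicit false
set_option maxHeartbeats 1000000

noncomputable section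

universe u

open TensorProduct WithConv
open Groth.Agent Groth.Agent.GrpSchLib.HopfRed

namespace UnipConjLib

attribute [local instance] HopfFF.pointsGroup

variable {k : Type u} [Field k]

theorem exists_point_value [IsAlgClosed k] {U : Type u} [CommRing U] [HopfAlgebra k U] [Algebra.FiniteType k U]
    [IsDomain U] {x : U} (hx : CoalgebraStruct.comul (R := k) x = x ⊗ₜ[k] (1 : U) + (1 : U) ⊗ₜ[k] x) (hx0 : x ≠ 0)
    (t : k) : ∃ g : U →ₐ[k] k, g x = t := by
  have hε := UnipSplit.counit_of_primitive hx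
  have htr : Function.Injective (Polynomial.aeval (R := k) x) := by
    refine transcendental_iff_injective.1 fun halg => hx0 ?_
    obtain ⟨c, hc⟩ := minpoly.mem_range_of_degree_eq_one k x
      (IsAlgClosed.degree_eq_one_of_irreducible k (minpoly.irreducible halg.isIntegral))
    rw [← hc, ← Bialgebra.counitAlgHom_apply, AlgHom.commutes] at hε
    rw [← hc, show c = 0 from hε, map_zero]
  let R := (Polynomial.aeval (R := k) x).range
  let X' : R := ⟨x, ⟨Polynomial.X, Polynomial.aeval_X x⟩⟩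
  have hS : HopfFF.IsSubHopf k U R := by
    refine ⟨?_, ?_⟩
    · rintro _ ⟨Q, rfl⟩
      have e : (TensorProduct.map R.val.toLinearMap R.val.toLinearMap) =
          (Algebra.TensorProduct.map R.val R.val).toLinearMap := TensorProduct.ext' fun p r => by simp
      rw [e]
      refine ⟨Polynomial.aeval (X' ⊗ₜ[k] (1 : R) + (1 : R) ⊗ₜ[k] X') Q, ?_⟩
      rw [AlgHom.toLinearMap_apply, ← Polynomial.aeval_algHom_apply, map_add, Algebra.TensorProduct.map_tmul,
        Algebra.TensorProduct.map_tmul, map_one]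
      show Polynomial.aeval (x ⊗ₜ[k] (1 : U) + (1 : U) ⊗ₜ[k] x) Q = _
      rw [← hx]
      exact Polynomial.aeval_algHom_apply (Bialgebra.comulAlgHom k U) x Q
    · rintro _ ⟨Q, rfl⟩
      refine ⟨Q.comp (-Polynomial.X), ?_⟩
      show Polynomial.aeval x (Q.comp (-Polynomial.X)) = HopfAlgebra.antipodeAlgHom k U (Polynomial.aeval x Q)
      rw [Polynomial.aeval_comp, map_neg, Polynomial.aeval_X, ← Polynomial.aeval_algHom_apply,
        show HopfAlgebra.antipodeAlgHom k U x = -x from UnipHopf.antipode_primitive hx]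
  haveI : Module.FaithfullyFlat R U := HopfFF.faithfullyFlat hS
  let E : Polynomial k ≃ₐ[k] R := AlgEquiv.ofInjective _ htr
  let ev : R →ₐ[k] k := (Polynomial.aeval t).comp E.symm.toAlgHom
  have hev : ev X' = t := by
    show Polynomial.aeval t (E.symm X') = t
    rw [show X' = E Polynomial.X from Subtype.ext (Polynomial.aeval_X x).symm, AlgEquiv.symm_apply_apply,
      Polynomial.aeval_X]
  let I : Ideal R := Ideal.span {X' - algebraMap k R t}
  have hI : I ≠ ⊤ := fun h => RingHom.ker_ne_top ev.toRingHom (top_le_iff.1 (h ▸ Ideal.span_le.2 (by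
    rintro _ rfl
    show ev (X' - algebraMap k R t) = 0
    rw [map_sub, hev, AlgHom.commutes]
    exact sub_self t)))
  have hIU : I.map (algebraMap R U) ≠ ⊤ := fun h => hI (by
    rw [← Ideal.comap_map_eq_self_of_faithfullyFlat (B := U) I, h, Ideal.comap_top])
  obtain ⟨M, hM, hle⟩ := Ideal.exists_le_maximal _ hIU
  letI : Field (U ⧸ M) := Ideal.Quotient.field M
  haveI : Algebra.FiniteType k (U ⧸ M) := Algebra.FiniteType.of_surjective (Ideal.Quotient.mkₐ k M)
    (Ideal.Quotient.mkₐ_surjective k M)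
  haveI : Module.Finite k (U ⧸ M) := finite_of_finite_type_of_isJacobsonRing k (U ⧸ M)
  let φ : k ≃ₐ[k] U ⧸ M := AlgEquiv.ofBijective (Algebra.ofId k (U ⧸ M))
    IsAlgClosed.algebraMap_bijective_of_isIntegral
  refine ⟨φ.symm.toAlgHom.comp (Ideal.Quotient.mkₐ k M), φ.injective ?_⟩
  show φ (φ.symm (Ideal.Quotient.mk M x)) = algebraMap k (U ⧸ M) t
  rw [AlgEquiv.apply_symm_apply, ← Ideal.Quotient.mk_algebraMap, Ideal.Quotient.eq]
  have h1 : algebraMap R U (X' - algebraMap k R t) = x - algebraMap k U t := by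
    rw [map_sub]; rfl
  rw [← h1]
  exact hle (Ideal.mem_map_of_mem _ (Ideal.mem_span_singleton_self _))

variable {A : Type u} [CommRing A] [HopfAlgebra k A] {B : Type u} [CommRing B] [HopfAlgebra k B]

theorem crossed_of_diag {P : Type u} [CommGroup P] (e : B ≃ₐc[k] MonoidAlgebra k P) {g₀ b : B} {γ : P}
    (hg : e g₀ = MonoidAlgebra.single γ 1)
    (hb : CoalgebraStruct.comul (R := k) b = b ⊗ₜ[k] (1 : B) + g₀ ⊗ₜ[k] b) : ∃ c : k, b = c • (g₀ - 1) := by
  classical
  set z := e b with hz
  let G : P → P → MonoidAlgebra k P ⊗[k] MonoidAlgebra k P →ₗ[k] k := fun m n =>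
    LinearMap.mul' k k ∘ₗ TensorProduct.map ((MonoidAlgebra.basis P k).coord m) ((MonoidAlgebra.basis P k).coord n)
  have hG : ∀ m n (p r : MonoidAlgebra k P), G m n (p ⊗ₜ[k] r) = p.coeff m * r.coeff n := fun m n p r => by
    simp [G]
    rfl
  have hΔ : ∀ m n, G m n (CoalgebraStruct.comul (R := k) z) = if m = n then z.coeff m else 0 := by
    intro m n
    clear_value z
    clear hz
    induction z using MonoidAlgebra.induction_linear with
    | zero => simp
    | add p q hp hq =>
      rw [map_add, map_add, hp, hq, MonoidAlgebra.coeff_add, Finsupp.add_apply]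
      split_ifs <;> simp
    | single a r =>
      rw [show CoalgebraStruct.comul (R := k) (MonoidAlgebra.single a r) =
        MonoidAlgebra.single a (1 : k) ⊗ₜ[k] MonoidAlgebra.single a r by simp, hG]
      simp only [MonoidAlgebra.coeff_single, Finsupp.single_apply]
      split_ifs with h1 h2 <;> simp_all
  have hrel : ∀ m n, (if m = n then z.coeff m else 0) =
      z.coeff m * (if 1 = n then 1 else 0) + (if γ = m then 1 else 0) * z.coeff n := fun m n => by
    rw [← hΔ, hz, ← CoalgHomClass.map_comp_comul_apply e, hb, map_add, map_add, TensorProduct.map_tmul,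
      TensorProduct.map_tmul, hG, hG]
    show (e b).coeff m * (e 1).coeff n + (e g₀).coeff m * (e b).coeff n = _
    rw [map_one, hg, MonoidAlgebra.one_def, MonoidAlgebra.coeff_single, MonoidAlgebra.coeff_single,
      Finsupp.single_apply, Finsupp.single_apply]
  refine ⟨-(z.coeff 1), (EquivLike.injective e) ?_⟩
  rw [map_smul, map_sub, hg, map_one e, ← hz, MonoidAlgebra.one_def]
  refine MonoidAlgebra.ext (Finsupp.ext fun m => ?_)
  rw [MonoidAlgebra.coeff_smul, MonoidAlgebra.coeff_sub, MonoidAlgebra.coeff_single, MonoidAlgebra.coeff_single,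
    Finsupp.smul_apply, Finsupp.sub_apply, Finsupp.single_apply, Finsupp.single_apply, smul_eq_mul]
  by_cases h1 : (1 : P) = m
  · subst h1
    by_cases hγ : γ = 1
    · have := hrel 1 1
      simp [hγ] at this ⊢
      exact this
    · simp [hγ]
  · by_cases hγ : γ = m
    · subst hγ
      have := hrel γ 1
      rw [if_neg (fun h => h1 h.symm), if_pos rfl, if_pos rfl, mul_one, one_mul] at this
      rw [if_pos rfl, if_neg h1, sub_zero, mul_one]
      linear_combination -this
    · have := hrel m m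
      rw [if_pos rfl, if_neg h1, if_neg hγ, mul_zero, zero_mul, add_zero] at this
      rw [if_neg h1, if_neg hγ, sub_zero, mul_zero]
      exact this

theorem isNilpotent_augI {p : ℕ} [Fact p.Prime] [CharP k p] {P : Type u} [CommGroup P]
    (e : B ≃ₐc[k] MonoidAlgebra k P) (hP : ∀ g : P, ∃ i : ℕ, g ^ p ^ i = 1) {b : B}
    (hb : CoalgebraStruct.counit (R := k) b = 0) : IsNilpotent b := by
  haveI := (Bialgebra.counitAlgHom k B).toRingHom.domain_nontrivial
  haveI : CharP B p := charP_of_injective_algebraMap (algebraMap k B).injective p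
  suffices h : ∀ z : MonoidAlgebra k P, IsNilpotent
      (e.symm z - algebraMap k B (CoalgebraStruct.counit (R := k) z)) by
    have h1 := h (e b)
    rwa [CoalgHomClass.counit_comp_apply, hb, map_zero, sub_zero, e.symm_apply_apply] at h1
  intro z
  induction z using MonoidAlgebra.induction_linear with
  | zero => simp
  | add p q hp hq =>
    rw [map_add, map_add, map_add, add_sub_add_comm]
    exact Commute.isNilpotent_add (Commute.all _ _) hp hq
  | single a r =>
    obtain ⟨i, hi⟩ := hP a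
    have h1 : IsNilpotent (e.symm (MonoidAlgebra.single a (1 : k)) - 1) := ⟨p ^ i, by
      rw [sub_pow_char_pow, one_pow, ← map_pow, MonoidAlgebra.single_pow, hi, one_pow, ← MonoidAlgebra.one_def,
        map_one, sub_self]⟩
    rw [show MonoidAlgebra.single a r = r • MonoidAlgebra.single a (1 : k) by simp, map_smul, map_smul,
      show CoalgebraStruct.counit (R := k) (MonoidAlgebra.single a (1 : k)) = 1 by simp, smul_eq_mul, mul_one,
      Algebra.algebraMap_eq_smul_one, ← smul_sub]
    exact h1.smul r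

theorem eq_zero_or_one_of_nil {p : ℕ} [Fact p.Prime] [CharP k p] {P : Type u} [CommGroup P]
    (e : B ≃ₐc[k] MonoidAlgebra k P) (hP : ∀ g : P, ∃ i : ℕ, g ^ p ^ i = 1) {b : B} (hb : IsIdempotentElem b) :
    b = 0 ∨ b = 1 := by
  rcases IsIdempotentElem.iff_eq_zero_or_one.1 (hb.map (Bialgebra.counitAlgHom k B)) with h | h
  · exact .inl (hb.eq_zero_of_isNilpotent (isNilpotent_augI e hP h))
  · refine .inr (sub_eq_zero.1 (hb.one_sub.eq_zero_of_isNilpotent (isNilpotent_augI e hP ?_))).symm
    show Bialgebra.counitAlgHom k B (1 - b) = 0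
    rw [map_sub, map_one, h, sub_self]

theorem smooth_quot_quot (ψ : B →ₐc[k] A) (J : Ideal A) [J.IsHopfIdeal k]
    (hJ : J = Ideal.map (ψ : B →+* A) (RingHom.ker (Bialgebra.counitAlgHom k B))) (I : Ideal A) [I.IsHopfIdeal k]
    (h : Algebra.FormallySmooth k ((A ⧸ J) ⧸ I.map (Ideal.Quotient.mkₐ k J))) :
    Algebra.FormallySmooth k ((A ⧸ I) ⧸ Ideal.map ((Bialgebra.Quotient.mkBialgHom (R := k) I).comp ψ : B →+* A ⧸ I)
      (RingHom.ker (Bialgebra.counitAlgHom k B))) := by
  have hmap : Ideal.map ((Bialgebra.Quotient.mkBialgHom (R := k) I).comp ψ : B →+* A ⧸ I)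
      (RingHom.ker (Bialgebra.counitAlgHom k B)) = J.map (Ideal.Quotient.mkₐ k I) := by
    rw [hJ]
    refine Eq.trans ?_ (Ideal.map_map (ψ : B →+* A) (Ideal.Quotient.mk I)).symm
    rfl
  rw [hmap]
  exact @Algebra.FormallySmooth.of_equiv k _ ((A ⧸ J) ⧸ I.map (Ideal.Quotient.mkₐ k J))
    ((A ⧸ I) ⧸ J.map (Ideal.Quotient.mkₐ k I)) _ _ _ _ h (DoubleQuot.quotQuotEquivCommₐ k J I)

/-- The inductive step. -/
theorem step [IsAlgClosed k] [Algebra.FiniteType k A] {p : ℕ} [Fact p.Prime] [CharP k p] {P : Type u} [CommGroup P]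
    (e : B ≃ₐc[k] MonoidAlgebra k P) (hP : ∀ g : P, ∃ i : ℕ, g ^ p ^ i = 1) (ψ : B →ₐc[k] A) (J : Ideal A)
    [J.IsHopfIdeal k] (hJ : J = Ideal.map (ψ : B →+* A) (RingHom.ker (Bialgebra.counitAlgHom k B)))
    (hK : ∀ u : A ⧸ J, ∃ n, u ∈ UnipHopf.K k (A ⧸ J) n) [Algebra.FormallySmooth k (A ⧸ J)] (r' r'' : A →ₐc[k] B)
    (hr' : r'.comp ψ = BialgHom.id k B) (hr'' : r''.comp ψ = BialgHom.id k B) (hne : r' ≠ r'') :
    ∃ (u : WithConv (A →ₐ[k] k)) (I : Ideal A) (_ : I.IsHopfIdeal k), u ∈ (resHom k ψ).ker ∧ I ≠ ⊥ ∧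
      (∀ a ∈ I, (r'.comp (inner u)) a = 0) ∧ (∀ a ∈ I, r'' a = 0) ∧
      Algebra.FormallySmooth k ((A ⧸ I) ⧸
        Ideal.map ((Bialgebra.Quotient.mkBialgHom (R := k) I).comp ψ : B →+* A ⧸ I)
          (RingHom.ker (Bialgebra.counitAlgHom k B))) := by
  classical
  haveI : ExpChar k p := ExpChar.prime Fact.out
  have hψ : Function.Injective ψ := Function.LeftInverse.injective (g := r') fun b => DFunLike.congr_fun hr' b
  haveI : Algebra.FiniteType k (A ⧸ J) := Algebra.FiniteType.of_surjective (Ideal.Quotient.mkₐ k J)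
    (Ideal.Quotient.mkₐ_surjective k J)
  haveI : Algebra.Smooth k (A ⧸ J) :=
    ⟨inferInstance, Algebra.FinitePresentation.of_finiteType.1 inferInstance⟩
  haveI : IsReduced (A ⧸ J) := S9407.result k (A ⧸ J)
  have hinner1 : r'.comp (inner 1) = r' := BialgHom.ext fun a => by
    have h := congrArg (fun w : WithConv (A →ₐ[k] B) => w.ofConv a) (comp_inner (1 : WithConv (A →ₐ[k] k)) r')
    simp only [map_one, one_mul, inv_one, mul_one] at h
    exact h
  obtain ⟨ê, hê, hεê, hHopf, hmin⟩ := exists_component (k := k) (A := A)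
  by_cases hconn : ê ≠ 1
  · -- reduction to the identity component
    haveI := hHopf
    have hkill : ∀ r : A →ₐc[k] B, ∀ a ∈ Ideal.span {1 - ê}, r a = 0 := fun r a ha => by
      obtain ⟨c, rfl⟩ := Ideal.mem_span_singleton'.1 ha
      have h1 : r ê = 1 := (eq_zero_or_one_of_nil e hP (hê.map r)).resolve_left fun h0 => by
        have h2 := congrArg (CoalgebraStruct.counit (R := k)) h0
        rw [CoalgHomClass.counit_comp_apply, hεê, map_zero] at h2
        exact one_ne_zero h2
      rw [map_mul, map_sub, map_one, h1, sub_self, mul_zero]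
    refine ⟨1, Ideal.span {1 - ê}, hHopf, one_mem _, ?_, fun a ha => ?_, hkill r'', smooth_quot_quot ψ J hJ _ ?_⟩
    · intro h
      exact hconn (sub_eq_zero.1 ((Ideal.span_singleton_eq_bot (α := A)).1 h)).symm
    · rw [hinner1]; exact hkill r' a ha
    · rw [Ideal.map_span, Set.image_singleton]
      exact formallySmooth_quot_idem (hê.one_sub.map _)
  push Not at hconn
  subst hconn
  let q : A →ₐc[k] A ⧸ J := Bialgebra.Quotient.mkBialgHom (R := k) J
  have hext : UnipSplit.Ext q ψ := UnipSplit.Ext.of_ideal ψ hψ J hJ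
  -- the kernel is connected
  have hnil : ∀ a ∈ RingHom.ker (Ideal.Quotient.mk J), IsNilpotent a := fun a ha => by
    rw [Ideal.mk_ker, hJ] at ha
    refine mem_nilradical.1 ((Ideal.map_le_iff_le_comap.2 fun b hb => ?_) ha)
    exact mem_nilradical.2 ((isNilpotent_augI e hP hb).map ψ)
  have hUconn : ∀ f : A ⧸ J, IsIdempotentElem f → f = 0 ∨ f = 1 := fun f hf => by
    obtain ⟨f', hf', rfl⟩ := exists_isIdempotentElem_eq_of_ker_isNilpotent _ hnil f
      (Ideal.Quotient.mk_surjective f) hf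
    rcases IsIdempotentElem.iff_eq_zero_or_one.1 (hf'.map (Bialgebra.counitAlgHom k A)) with h | h
    · have h1 := hmin (1 - f') hf'.one_sub (by
        show Bialgebra.counitAlgHom k A (1 - f') = 1
        rw [map_sub, map_one, h, sub_zero])
      rw [one_mul, sub_eq_self] at h1
      exact .inl (by rw [h1, map_zero])
    · have h1 := hmin f' hf' h
      rw [one_mul] at h1
      exact .inr (by rw [h1, map_one])
  -- the kernel is not trivial
  obtain ⟨u₀, hu₀⟩ : ∃ u : A ⧸ J, u ≠ CoalgebraStruct.counit (R := k) u • (1 : A ⧸ J) := by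
    by_contra htriv
    push Not at htriv
    have hbij : Function.Bijective ψ := by
      refine HopfFF.bijective_of_injective_of_map_augI ψ hψ
        (le_antisymm (Ideal.map_le_iff_le_comap.2 fun b hb => ?_) fun a ha => ?_)
      · show Coalgebra.counit (R := k) (ψ b) = 0
        rw [CoalgHomClass.counit_comp_apply]
        exact hb
      have h1 := htriv (Ideal.Quotient.mk J a)
      rw [show CoalgebraStruct.counit (R := k) (Ideal.Quotient.mk J a) = 0 from ha, zero_smul,
        Ideal.Quotient.eq_zero_iff_mem, hJ] at h1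
      exact h1
    refine hne (BialgHom.ext fun a => ?_)
    obtain ⟨b, rfl⟩ := hbij.2 a
    exact (DFunLike.congr_fun hr' b).trans (DFunLike.congr_fun hr'' b).symm
  haveI : IsDomain (A ⧸ J) := LieKolchinLib.isDomain k hUconn
  obtain ⟨x₀, hx₀, hx₀'⟩ := UnipHopf.exists_primitive_of_exhaustive hK hu₀
  -- a primitive element with nonzero differential
  obtain ⟨x₁, hx₁, hx₁'⟩ : ∃ x : A ⧸ J, CoalgebraStruct.comul (R := k) x = x ⊗ₜ[k] 1 + 1 ⊗ₜ[k] x ∧
      cotProj k (A ⧸ J) x ≠ 0 := by
    by_contra hno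
    push Not at hno
    have hall : ∀ (j : ℕ) (x : A ⧸ J), CoalgebraStruct.comul (R := k) x = x ⊗ₜ[k] 1 + 1 ⊗ₜ[k] x →
        x ∈ augI k (A ⧸ J) ^ (j + 1) := by
      intro j
      induction j with
      | zero =>
        intro x hx
        rw [zero_add, pow_one, RingHom.mem_ker]
        exact UnipSplit.counit_of_primitive hx
      | succ j ih =>
        intro x hx
        have hm : x ∈ augI k (A ⧸ J) := RingHom.mem_ker.2 (UnipSplit.counit_of_primitive hx)
        have h2 : x ∈ augI k (A ⧸ J) ^ 2 := by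
          have := hno x hx
          rw [cotProj_of_mem hm] at this
          exact (Ideal.toCotangent_eq_zero _ ⟨x, hm⟩).1 this
        obtain ⟨y, hy, rfl⟩ := exists_primitive_root p hx h2
        refine Ideal.pow_le_pow_right ?_ (by rw [pow_mul]; exact Ideal.pow_mem_pow (ih y hy) p :
          y ^ p ∈ augI k (A ⧸ J) ^ ((j + 1) * p))
        have := (Fact.out : p.Prime).two_le
        nlinarith
    haveI : IsNoetherianRing (A ⧸ J) := Algebra.FiniteType.isNoetherianRing k _
    apply hx₀
    rw [← Submodule.mem_bot (A ⧸ J), ← Ideal.iInf_pow_eq_bot_of_isDomain (augI k (A ⧸ J)) (RingHom.ker_ne_top _),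
      Submodule.mem_iInf]
    rintro (_ | j)
    · simp
    · exact hall j x₀ hx₀'
  obtain ⟨v, hv⟩ : ∃ v : (augI k (A ⧸ J)).Cotangent →ₗ[k] k, v (cotProj k (A ⧸ J) x₁) ≠ 0 := by
    haveI : IsNoetherianRing (A ⧸ J) := Algebra.FiniteType.isNoetherianRing k _
    haveI : Module.Finite k (augI k (A ⧸ J)).Cotangent := finite_cotangent (B := A ⧸ J) (k := k)
    let b := Module.finBasis k (augI k (A ⧸ J)).Cotangent
    by_contra h
    push Not at h
    exact hx₁' (b.forall_coord_eq_zero_iff.1 fun i => h (b.coord i))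
  let β := (MonoidAlgebra.basis P k).map e.toAlgEquiv.symm.toLinearEquiv
  have hβ : ∀ m, β m = e.symm (MonoidAlgebra.single m 1) := fun m => by simp [β]; rfl
  have hgl : ∀ m, IsGroupLikeElem k (β m) := fun m => by
    rw [hβ]
    exact (⟨by simp, by simp⟩ : IsGroupLikeElem k (MonoidAlgebra.single m (1 : k))).map e.symm
  obtain ⟨κ, hκ⟩ := hext.exists_conj
  obtain ⟨x, γ, hvx, hx, hgx⟩ := hext.exists_weight_of β (fun m => (hgl m).comul_eq_tmul_self) hκ hx₁
    (v ∘ₗ cotProj k (A ⧸ J)) hv
  change v (cotProj k (A ⧸ J) x) ≠ 0 at hvx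
  have hx0 : x ≠ 0 := fun h => hvx (by rw [h, map_zero, map_zero])
  obtain ⟨a, ha, hΔ⟩ := hext.exists_crossed_diag ⟨P, inferInstance, ⟨e⟩⟩ hκ hx (hgl γ) hgx
  set g := ψ (β γ) with hg
  -- values on the two retractions
  have hval : ∀ r : A →ₐc[k] B, r.comp ψ = BialgHom.id k B → ∃ c : k, r a = c • (β γ - 1) := fun r hr => by
    refine crossed_of_diag e (γ := γ) (by rw [hβ]; exact e.apply_symm_apply _) ?_
    rw [← CoalgHomClass.map_comp_comul_apply r, hΔ, map_add, TensorProduct.map_tmul, TensorProduct.map_tmul]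
    show r a ⊗ₜ[k] r 1 + r (ψ (β γ)) ⊗ₜ[k] r a = _
    rw [map_one, show r (ψ (β γ)) = β γ from DFunLike.congr_fun hr _]
  obtain ⟨c', hc'⟩ := hval r' hr'
  obtain ⟨c'', hc''⟩ := hval r'' hr''
  obtain ⟨θ, hθ⟩ := exists_point_value hx hx0 (c' - c'')
  let u : WithConv (A →ₐ[k] k) := UnipSplit.pull q θ
  have hu : u ∈ (resHom k ψ).ker := (mem_ker_resHom_iff hJ).2 fun b hb => by
    show θ (Ideal.Quotient.mk J b) = 0
    rw [Ideal.Quotient.eq_zero_iff_mem.2 hb, map_zero]
  have hqa : q a = x := by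
    have hεa : CoalgebraStruct.counit (R := k) a = 0 := by
      have h := congrArg (LinearMap.mul' k k ∘ₗ TensorProduct.map (CoalgebraStruct.counit (R := k))
        (CoalgebraStruct.counit (R := k))) hΔ
      have hεg : CoalgebraStruct.counit (R := k) g = 1 := by
        rw [hg, CoalgHomClass.counit_comp_apply]; exact (hgl γ).counit_eq_one
      have h' : ∀ z : A, (LinearMap.mul' k k ∘ₗ TensorProduct.map (CoalgebraStruct.counit (R := k))
          (CoalgebraStruct.counit (R := k))) (CoalgebraStruct.comul (R := k) z) = CoalgebraStruct.counit (R := k) z := by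
        intro z
        have h2 := congrArg (CoalgebraStruct.counit (R := k) ∘ TensorProduct.lid k A)
          (Coalgebra.rTensor_counit_comul (R := k) z)
        rw [Function.comp_apply, Function.comp_apply, TensorProduct.lid_tmul, one_smul] at h2
        refine Eq.trans ?_ h2
        generalize CoalgebraStruct.comul (R := k) z = w
        induction w using TensorProduct.induction_on with
        | zero => simp
        | add p r hp hr => simp only [map_add, hp, hr]
        | tmul p r => simp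
      rw [h'] at h
      simpa [hεg, Bialgebra.counit_one] using h
    have h := congrArg (fun z => TensorProduct.rid k (A ⧸ J)
      (LinearMap.lTensor (A ⧸ J) (CoalgebraStruct.counit (R := k)) z)) ha
    simp only [map_add, LinearMap.lTensor_tmul, TensorProduct.rid_tmul, Bialgebra.counit_one, one_smul, hεa,
      zero_smul, add_zero] at h
    refine Eq.trans ?_ h
    rw [UnipSplit.lam_apply]
    have h2 := congrArg (fun w => q (TensorProduct.rid k A w)) (Coalgebra.lTensor_counit_comul (R := k) a)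
    simp only [TensorProduct.rid_tmul, one_smul] at h2
    refine h2.symm.trans ?_
    generalize CoalgebraStruct.comul (R := k) a = w
    induction w using TensorProduct.induction_on with
    | zero => simp
    | add p r hp hr => simp only [map_add, hp, hr]
    | tmul p r => simp
  have hinner : inner u a = a + (c' - c'') • (1 - g) := by
    have hu' : cstHom A u = UnipSplit.pull q ((Algebra.ofId k A).comp θ) := rfl
    have h1 : (toConv (AlgHom.id k A) * (cstHom A u)⁻¹).ofConv a = a - (c' - c'') • g := by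
      rw [← map_inv]
      show (toConv (AlgHom.id k A) * cstHom A u⁻¹) a = _
      rw [AlgHom.convMul_apply, show Coalgebra.comul (R := k) a = _ from hΔ, map_add,
        Algebra.TensorProduct.lift_tmul, Algebra.TensorProduct.lift_tmul]
      have hinv : u⁻¹.ofConv a = -(c' - c'') := by
        show θ (q (HopfAlgebraStruct.antipode (R := k) a)) = _
        rw [HopfFF.map_antipode q, hqa, UnipHopf.antipode_primitive hx, map_neg, hθ]
      simp only [ofConv_toConv, AlgHom.id_apply, cstHom_apply, map_one, hinv]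
      rw [mul_one, Algebra.smul_def (c' - c''), map_neg]
      ring
    show (cstHom A u * toConv (AlgHom.id k A) * (cstHom A u)⁻¹).ofConv a = _
    rw [mul_assoc, hu',
      show UnipSplit.pull q ((Algebra.ofId k A).comp θ) * (toConv (AlgHom.id k A) *
        (UnipSplit.pull q ((Algebra.ofId k A).comp θ))⁻¹) = UnipSplit.pull q ((Algebra.ofId k A).comp θ) *
        toConv (toConv (AlgHom.id k A) * (cstHom A u)⁻¹).ofConv from rfl,
      UnipSplit.apply_translate ha, h1, AlgHom.comp_apply, hθ, Algebra.ofId_apply,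
      Algebra.algebraMap_eq_smul_one, smul_sub]
    abel
  let a' := a - c'' • (g - 1)
  have hΔg : CoalgebraStruct.comul (R := k) g = g ⊗ₜ[k] g := by
    rw [hg, ← CoalgHomClass.map_comp_comul_apply ψ, (hgl γ).comul_eq_tmul_self, TensorProduct.map_tmul]
    rfl
  have hΔa' : CoalgebraStruct.comul (R := k) a' = a' ⊗ₜ[k] (1 : A) + g ⊗ₜ[k] a' := by
    simp only [a', map_sub, map_smul, hΔ, hΔg, Bialgebra.comul_one, Algebra.TensorProduct.one_def,
      TensorProduct.sub_tmul, TensorProduct.tmul_sub, TensorProduct.smul_tmul', TensorProduct.tmul_smul, smul_sub]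
    abel
  have hgrp : IsGroupLikeElem k g := ⟨by rw [hg, CoalgHomClass.counit_comp_apply]; exact (hgl γ).counit_eq_one, hΔg⟩
  haveI hI : (Ideal.span {a'}).IsHopfIdeal k := UnipSplit.isHopfIdeal_span_crossed hgrp hΔa'
  have hqa' : q a' = x := by
    rw [map_sub, map_smul, map_sub, hqa, map_one, hg, hext.comp, (hgl γ).counit_eq_one, map_one, sub_self, smul_zero,
      sub_zero]
  have hrg : ∀ r : A →ₐc[k] B, r.comp ψ = BialgHom.id k B → r g = β γ := fun r hr => DFunLike.congr_fun hr _
  refine ⟨u, Ideal.span {a'}, hI, hu, fun h => hx0 ?_, fun z hz => ?_, fun z hz => ?_, smooth_quot_quot ψ J hJ _ ?_⟩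
  · rw [← hqa', (Ideal.span_singleton_eq_bot (α := A)).1 h, map_zero]
  · obtain ⟨d, rfl⟩ := Ideal.mem_span_singleton'.1 hz
    have h1 := hrg _ (conj_comp_retraction hu hr')
    rw [map_mul, show (r'.comp (inner u)) a' = 0 from ?_, mul_zero]
    rw [map_sub, map_smul, map_sub, h1, map_one]
    show r' (inner u a) - _ = 0
    rw [hinner, map_add, map_smul, map_sub, map_one, hrg r' hr', hc', ← neg_sub (β γ) 1, smul_neg, ← sub_eq_add_neg,
      sub_smul]
    abel
  · obtain ⟨d, rfl⟩ := Ideal.mem_span_singleton'.1 hz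
    rw [map_mul, map_sub, map_smul, map_sub, map_one, hrg r'' hr'', hc'', sub_self, mul_zero]
  · rw [Ideal.map_span, Set.image_singleton]
    obtain ⟨D, -, hD⟩ := exists_invariant_derivation (U := A ⧸ J) v
    rw [show (Ideal.Quotient.mkₐ k J) a' = x from hqa']
    refine formallySmooth_quot_of_derivation ((v (cotProj k (A ⧸ J) x))⁻¹ • D) ?_
    show (v (cotProj k (A ⧸ J) x))⁻¹ • D x = 1
    rw [hD x hx, Algebra.algebraMap_eq_smul_one, smul_smul, inv_mul_cancel₀ hvx, one_smul]

/-- Two retractions onto an infinitesimal diagonalisable quotient are conjugate when the kernel is smooth. -/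
theorem conj_infinitesimal [IsAlgClosed k] [Algebra.FiniteType k A] {p : ℕ} [Fact p.Prime] [CharP k p] {P : Type u}
    [CommGroup P] (e : B ≃ₐc[k] MonoidAlgebra k P) (hP : ∀ g : P, ∃ i : ℕ, g ^ p ^ i = 1) (ψ : B →ₐc[k] A)
    (J : Ideal A) [J.IsHopfIdeal k] (hJ : J = Ideal.map (ψ : B →+* A) (RingHom.ker (Bialgebra.counitAlgHom k B)))
    (hK : ∀ u : A ⧸ J, ∃ n, u ∈ UnipHopf.K k (A ⧸ J) n) (hsm : Algebra.FormallySmooth k (A ⧸ J))
    (r' r'' : A →ₐc[k] B) (hr' : r'.comp ψ = BialgHom.id k B) (hr'' : r''.comp ψ = BialgHom.id k B) :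
    ∃ u ∈ (resHom k ψ).ker, Conj u r' r'' := by
  haveI : IsNoetherianRing A := Algebra.FiniteType.isNoetherianRing k A
  suffices h : ∀ (I : Ideal A) (A₁ : Type u) (_ : CommRing A₁) (_ : HopfAlgebra k A₁) (π : A →ₐc[k] A₁),
      Function.Surjective π → RingHom.ker (π : A →+* A₁) = I → ∀ (ψ₁ : B →ₐc[k] A₁) (J₁ : Ideal A₁)
      (_ : J₁.IsHopfIdeal k), J₁ = Ideal.map (ψ₁ : B →+* A₁) (RingHom.ker (Bialgebra.counitAlgHom k B)) →
      (∀ u : A₁ ⧸ J₁, ∃ n, u ∈ UnipHopf.K k (A₁ ⧸ J₁) n) → Algebra.FormallySmooth k (A₁ ⧸ J₁) →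
      ∀ s' s'' : A₁ →ₐc[k] B, s'.comp ψ₁ = BialgHom.id k B → s''.comp ψ₁ = BialgHom.id k B →
      ∃ u ∈ (resHom k ψ₁).ker, Conj u s' s'' from
    h _ A _ _ (BialgHom.id k A) (fun a => ⟨a, rfl⟩) rfl ψ J inferInstance hJ hK hsm r' r'' hr' hr''
  intro I
  induction I using WellFoundedGT.induction with
  | _ I ih =>
  intro A₁ _ _ π hπ hI ψ₁ J₁ _ hJ₁ hK₁ hsm₁ s' s'' hs' hs''
  haveI := hsm₁
  haveI : Algebra.FiniteType k A₁ := Algebra.FiniteType.of_surjective (π : A →ₐ[k] A₁) hπ
  by_cases heq : s' = s''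
  · refine ⟨1, one_mem _, ?_⟩
    rw [Conj, map_one, one_mul, inv_one, mul_one, heq]
  obtain ⟨u, I₁, _, hu, hI₁, hk', hk'', hsm₂⟩ := step e hP ψ₁ J₁ hJ₁ hK₁ s' s'' hs' hs'' heq
  let π₁ : A₁ →ₐc[k] A₁ ⧸ I₁ := Bialgebra.Quotient.mkBialgHom (R := k) I₁
  let ψ₂ : B →ₐc[k] A₁ ⧸ I₁ := π₁.comp ψ₁
  let J₂ := Ideal.map (ψ₂ : B →+* A₁ ⧸ I₁) (RingHom.ker (Bialgebra.counitAlgHom k B))
  haveI : J₂.IsHopfIdeal k := UnipSplit.isHopfIdeal_map ψ₂
  obtain ⟨t', ht'⟩ := exists_factor π₁ Ideal.Quotient.mk_surjective (s'.comp (inner u)) fun a ha =>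
    hk' a (Ideal.Quotient.eq_zero_iff_mem.1 ha)
  obtain ⟨t'', ht''⟩ := exists_factor π₁ Ideal.Quotient.mk_surjective s'' fun a ha =>
    hk'' a (Ideal.Quotient.eq_zero_iff_mem.1 ha)
  obtain ⟨f, hf, -⟩ := exists_kernel_map π₁ Ideal.Quotient.mk_surjective ψ₁ J₁ J₂ hJ₁ rfl
  have hlt : I < RingHom.ker (π₁.comp π : A →+* A₁ ⧸ I₁) := by
    refine lt_of_le_of_ne (fun a ha => ?_) fun heq' => hI₁ (eq_bot_iff.2 fun z hz => ?_)
    · rw [← hI] at ha
      show π₁ (π a) = 0
      rw [show π a = 0 from ha, map_zero]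
    · obtain ⟨a, rfl⟩ := hπ z
      have h1 : a ∈ I := by
        rw [heq']
        exact Ideal.Quotient.eq_zero_iff_mem.2 hz
      rw [← hI] at h1
      exact h1
  obtain ⟨w, hw, hconj⟩ := ih _ hlt (A₁ ⧸ I₁) inferInstance inferInstance (π₁.comp π)
    (Ideal.Quotient.mk_surjective.comp hπ) rfl ψ₂ J₂ inferInstance rfl (exhaustive_quot hf hK₁) hsm₂ t' t''
    (by rw [show t'.comp ψ₂ = (t'.comp π₁).comp ψ₁ from rfl, ht']; exact conj_comp_retraction hu hs')
    (by rw [show t''.comp ψ₂ = (t''.comp π₁).comp ψ₁ from rfl, ht'']; exact hs'')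
  refine ⟨resHom k π₁ w * u, mul_mem ?_ hu, conj_trans (r' := s') ?_⟩
  · exact hw
  · have h := conj_of_quot π₁ hconj
    rwa [ht', ht''] at h

end UnipConjLib
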