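import Groth.Agent.UnipConjLib.Infinitesimal
import Groth.Prelude.Def_SGA3b
import Mathlib.RingTheory.Noetherian.Defs
import Mathlib.LinearAlgebra.Dual.Lemmas
import Mathlib.GroupTheory.Subgroup.Centralizer

/-!
Two liftings of a diagonalisable quotient of an extension by a unipotent group are conjugate.
-/

set_option autoImplicit false
set_option maxHeartbeats 800000

noncomputable section

universe u

open TensorProduct WithConv
open Groth.Agent

namespace UnipConjLib

attribute [local instance] HopfFF.pointsGroup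
attribute [-instance] AlgHom.convInv AlgHom.convGroup

variable {k : Type u} [Field k] {A : Type u} [CommRing A] [HopfAlgebra k A]
  {T : Type u} [CommRing T] [Algebra k T]

/-- `u` conjugates `R'` to `R''`. -/
def Sat (R' R'' : WithConv (A →ₐ[k] T)) (u : WithConv (A →ₐ[k] k)) : Prop :=
  cstHom T u * R' * (cstHom T u)⁻¹ = R''

/-- Transporters are closed. -/
theorem sat_closed (R' R'' : WithConv (A →ₐ[k] T)) {S : Set (WithConv (A →ₐ[k] k))}
    (hS : ∀ u ∈ S, Sat R' R'' u) {g : WithConv (A →ₐ[k] k)}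
    (hg : ∀ a : A, (∀ u ∈ S, u.ofConv a = 0) → g.ofConv a = 0) : Sat R' R'' g := by
  let i1 : A →ₐ[k] A ⊗[k] T := Algebra.TensorProduct.includeLeft
  let i2 : T →ₐ[k] A ⊗[k] T := Algebra.TensorProduct.includeRight
  let W : WithConv (A →ₐ[k] A ⊗[k] T) := toConv i1 * UnipSplit.push i2 R' * (toConv i1)⁻¹
  have hev : ∀ (u : WithConv (A →ₐ[k] k)) (a : A),
      (cstHom T u * R' * (cstHom T u)⁻¹).ofConv a =
        Algebra.TensorProduct.productMap ((Algebra.ofId k T).comp u.ofConv) (AlgHom.id k T) (W.ofConv a) := by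
    intro u a
    set pm := Algebra.TensorProduct.productMap ((Algebra.ofId k T).comp u.ofConv) (AlgHom.id k T)
    have e1 : UnipSplit.push pm (toConv i1) = cstHom T u := by
      rw [UnipSplit.push_toConv, Algebra.TensorProduct.productMap_left]; rfl
    have e2 : UnipSplit.push pm (UnipSplit.push i2 R') = R' := by
      show toConv ((pm.comp i2).comp R'.ofConv) = R'
      rw [Algebra.TensorProduct.productMap_right]; rfl
    have h : UnipSplit.push pm W = cstHom T u * R' * (cstHom T u)⁻¹ := by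
      rw [UnipSplit.push_mul, UnipSplit.push_mul, UnipSplit.push_inv, e1, e2]
    rw [← h]
    rfl
  refine WithConv.ext (AlgHom.ext fun a => (Module.forall_dual_apply_eq_zero_iff k _).1 (fun f => ?_) |> sub_eq_zero.1)
  have hf : ∀ (u : WithConv (A →ₐ[k] k)) (z : A ⊗[k] T),
      f (Algebra.TensorProduct.productMap ((Algebra.ofId k T).comp u.ofConv) (AlgHom.id k T) z) =
        u.ofConv (ComodLib.slice f z) := fun u z => by
    induction z using TensorProduct.induction_on with
    | zero => simp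
    | add x y hx hy => simp only [map_add, hx, hy]
    | tmul x y =>
      rw [Algebra.TensorProduct.productMap_apply_tmul, ComodLib.slice_tmul, AlgHom.id_apply, map_smul,
        AlgHom.comp_apply, Algebra.ofId_apply, ← Algebra.smul_def, map_smul, smul_eq_mul, smul_eq_mul, mul_comm]
  set F := ComodLib.slice f (W.ofConv a) - algebraMap k A (f (R''.ofConv a))
  have hval : ∀ u : WithConv (A →ₐ[k] k),
      u.ofConv F = f ((cstHom T u * R' * (cstHom T u)⁻¹).ofConv a - R''.ofConv a) := fun u => by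
    rw [map_sub, map_sub, AlgHom.commutes, hev, hf]
    rfl
  rw [← hval]
  exact hg F fun u hu => by rw [hval, show cstHom T u * R' * (cstHom T u)⁻¹ = R'' from hS u hu, sub_self, map_zero]

variable {B : Type u} [CommRing B] [HopfAlgebra k B]

/-- Pulling points back along a retraction. -/
theorem push_bialgHom (r : A →ₐc[k] B) (pt : B →ₐ[k] T) :
    UnipSplit.push pt (toConv (r : A →ₐ[k] B)) = resHom T r (toConv pt) := rfl

theorem sat_of_conj {r' r'' : A →ₐc[k] B} {u : WithConv (A →ₐ[k] k)} (h : Conj u r' r'') (pt : B →ₐ[k] T) :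
    Sat (resHom T r' (toConv pt)) (resHom T r'' (toConv pt)) u := by
  have h1 := congrArg (UnipSplit.push pt) h
  rw [UnipSplit.push_mul, UnipSplit.push_mul, UnipSplit.push_inv, push_cstHom] at h1
  exact h1.symm

theorem mul_comm_points {M : Type u} [CommGroup M] (e : B ≃ₐc[k] MonoidAlgebra k M) (f g : WithConv (B →ₐ[k] T)) :
    f * g = g * f := by
  refine WithConv.ext (AlgHom.ext fun b => ?_)
  obtain ⟨z, rfl⟩ : ∃ z, e.symm z = b := ⟨e b, e.symm_apply_apply b⟩
  induction z using MonoidAlgebra.induction_on with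
  | of m =>
    have hc : Coalgebra.comul (R := k) (e.symm (MonoidAlgebra.of k M m)) =
        e.symm (MonoidAlgebra.of k M m) ⊗ₜ[k] e.symm (MonoidAlgebra.of k M m) := by
      rw [← CoalgHomClass.map_comp_comul_apply e.symm]
      simp [MonoidAlgebra.of_apply]
    rw [AlgHom.convMul_apply, AlgHom.convMul_apply, hc]
    simp [mul_comm]
  | add x y hx hy => rw [map_add, map_add, map_add, hx, hy]
  | smul r x hx => rw [map_smul, map_smul, map_smul, hx]

theorem resHom_comp_retraction {ψ : B →ₐc[k] A} {r : A →ₐc[k] B} (hr : r.comp ψ = BialgHom.id k B)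
    (P : WithConv (B →ₐ[k] T)) : resHom T ψ (resHom T r P) = P :=
  WithConv.ext (AlgHom.ext fun b => congrArg P.ofConv (DFunLike.congr_fun hr b))

theorem resHom_cstHom (φ : B →ₐc[k] A) (u : WithConv (A →ₐ[k] k)) :
    resHom T φ (cstHom T u) = cstHom T (resHom k φ u) := WithConv.ext (AlgHom.ext fun _ => rfl)

/-- The general form. -/
theorem conj_aux [IsAlgClosed k] [Algebra.FiniteType k A] {M : Type u} [CommGroup M] [Group.FG M]
    (e : B ≃ₐc[k] MonoidAlgebra k M) (q : ℕ) [ExpChar k q] (ψ : B →ₐc[k] A) (J : Ideal A) [J.IsHopfIdeal k]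
    (hJ : J = Ideal.map (ψ : B →+* A) (RingHom.ker (Bialgebra.counitAlgHom k B)))
    (hK : ∀ u : A ⧸ J, ∃ n, u ∈ UnipHopf.K k (A ⧸ J) n)
    {P : Type u} [CommGroup P] (π : M →* P) (hπ : ∀ (m : M) (i : ℕ), m ^ q ^ i = 1 → π m = 1 → m = 1)
    (r' r'' : A →ₐc[k] B) (hr' : r'.comp ψ = BialgHom.id k B) (hr'' : r''.comp ψ = BialgHom.id k B)
    (u₁ : WithConv (A →ₐ[k] k)) (hu₁ : u₁ ∈ (resHom k ψ).ker)
    (h₁ : Sat (resHom (MonoidAlgebra k P) r' (toConv (projP e π : B →ₐ[k] MonoidAlgebra k P)))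
      (resHom (MonoidAlgebra k P) r'' (toConv (projP e π : B →ₐ[k] MonoidAlgebra k P))) u₁)
    (hroot : ∀ n : ℕ, (n : k) ≠ 0 → ∀ x ∈ (resHom k ψ).ker,
      Commute (cstHom (MonoidAlgebra k P) (x ^ n))
        (resHom (MonoidAlgebra k P) r'' (toConv (projP e π : B →ₐ[k] MonoidAlgebra k P))) →
      Commute (cstHom (MonoidAlgebra k P) x)
        (resHom (MonoidAlgebra k P) r'' (toConv (projP e π : B →ₐ[k] MonoidAlgebra k P)))) :
    ∃ u ∈ (resHom k ψ).ker, Conj u r' r'' := by
  classical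
  let E := WithConv (A →ₐ[k] k)
  let N := (resHom k ψ).ker
  set pr : WithConv (B →ₐ[k] MonoidAlgebra k P) := toConv (projP e π : B →ₐ[k] MonoidAlgebra k P)
  set R' := resHom (MonoidAlgebra k P) r' pr
  set R'' := resHom (MonoidAlgebra k P) r'' pr
  let S : ℕ → Set E := fun n => {u | u ∈ N ∧ Sat R' R'' u ∧ ∀ χ : M →* rootsOfUnity n k,
    Sat (resHom k r' (charPt e n χ)) (resHom k r'' (charPt e n χ)) u}
  obtain ⟨hNnil, hNpow⟩ := ker_props (ψ := ψ) hJ hK
  -- solutions on each finite subgroup of torsion points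
  have hne : ∀ n : ℕ, (n : k) ≠ 0 → ∃ u, u ∈ S n := by
    intro n hn
    haveI : NeZero n := ⟨fun h => hn (by rw [h, Nat.cast_zero])⟩
    haveI : Finite (M →* rootsOfUnity n k) := finite_chars n
    letI : Fintype (M →* rootsOfUnity n k) := Fintype.ofFinite _
    let s' : (M →* rootsOfUnity n k) → E := fun χ => u₁ * resHom k r' (charPt e n χ) * u₁⁻¹
    let s'' : (M →* rootsOfUnity n k) →* E := (resHom k r'').comp (charPt e n)
    let C : Subgroup E := (Subgroup.centralizer {R''}).comap (cstHom (MonoidAlgebra k P)) ⊓ N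
    have hcent : ∀ x : E, x ∈ (Subgroup.centralizer {R''}).comap (cstHom (MonoidAlgebra k P)) ↔
        Commute (cstHom (MonoidAlgebra k P) x) R'' := fun x => by
      rw [Subgroup.mem_comap, Subgroup.mem_centralizer_iff]
      exact ⟨fun h => (h R'' rfl).symm, fun h g hg => by rw [Set.mem_singleton_iff.1 hg]; exact h.eq.symm⟩
    have hs''com : ∀ χ, Commute (cstHom (MonoidAlgebra k P) (s'' χ)) R'' := fun χ => by
      show Commute (cstHom _ (resHom k r'' (charPt e n χ))) (resHom _ r'' pr)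
      rw [← resHom_cstHom]
      exact (show Commute (cstHom (MonoidAlgebra k P) (charPt e n χ)) pr from mul_comm_points e _ _).map _
    have hs'com : ∀ χ, Commute (cstHom (MonoidAlgebra k P) (s' χ)) R'' := fun χ => by
      show Commute (cstHom _ (u₁ * resHom k r' (charPt e n χ) * u₁⁻¹)) R''
      rw [map_mul, map_mul, map_inv, ← show cstHom (MonoidAlgebra k P) u₁ * R' * (cstHom (MonoidAlgebra k P) u₁)⁻¹ =
        R'' from h₁]
      refine Commute.conj_iff _ |>.2 ?_
      rw [← resHom_cstHom]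
      exact (show Commute (cstHom (MonoidAlgebra k P) (charPt e n χ)) pr from mul_comm_points e _ _).map _
    have hu₁' : resHom k ψ u₁ = 1 := hu₁
    have hψs' : ∀ χ, resHom k ψ (s' χ) = charPt e n χ := fun χ => by
      show resHom k ψ (u₁ * _ * u₁⁻¹) = _
      rw [map_mul, map_mul, map_inv, hu₁', resHom_comp_retraction hr', one_mul, inv_one, mul_one]
    have hψs'' : ∀ χ, resHom k ψ (s'' χ) = charPt e n χ := fun χ => resHom_comp_retraction hr'' _
    have hnorm : ∀ χ, ∀ x ∈ C, s'' χ * x * (s'' χ)⁻¹ ∈ C := fun χ x hx => by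
      refine ⟨?_, (MonoidHom.normal_ker _).conj_mem x hx.2 _⟩
      refine (hcent _).2 ?_
      rw [map_mul, map_mul, map_inv]
      exact ((hs''com χ).mul_left ((hcent x).1 hx.1)).mul_left (hs''com χ).inv_left
    let act : (M →* rootsOfUnity n k) →* MulAut C :=
      { toFun := fun χ =>
          { toFun := fun x => ⟨s'' χ * x * (s'' χ)⁻¹, hnorm χ x x.2⟩
            invFun := fun x => ⟨(s'' χ)⁻¹ * x * s'' χ, by
              have h := hnorm χ⁻¹ x x.2
              rwa [map_inv, inv_inv] at h⟩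
            left_inv := fun x => Subtype.ext (by
              show (s'' χ)⁻¹ * (s'' χ * (x : E) * (s'' χ)⁻¹) * s'' χ = x; group)
            right_inv := fun x => Subtype.ext (by
              show s'' χ * ((s'' χ)⁻¹ * (x : E) * s'' χ) * (s'' χ)⁻¹ = x; group)
            map_mul' := fun x y => Subtype.ext (by
              show s'' χ * ((x : E) * y) * (s'' χ)⁻¹ = (s'' χ * x * (s'' χ)⁻¹) * (s'' χ * y * (s'' χ)⁻¹); group) }
        map_one' := MulEquiv.ext fun x => Subtype.ext (by
          show s'' 1 * (x : E) * (s'' 1)⁻¹ = x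
          rw [map_one]; group)
        map_mul' := fun χ χ' => MulEquiv.ext fun x => Subtype.ext (by
          show s'' (χ * χ') * (x : E) * (s'' (χ * χ'))⁻¹ = s'' χ * (s'' χ' * x * (s'' χ')⁻¹) * (s'' χ)⁻¹
          rw [map_mul]; group) }
    haveI : Group.IsNilpotent N := hNnil
    haveI : Group.IsNilpotent C := Group.nilpotent_of_mulEquiv (Subgroup.subgroupOfEquivOfLe
      (inf_le_right : C ≤ N))
    have hcard : ((Fintype.card (M →* rootsOfUnity n k) : ℕ) : k) ≠ 0 := card_chars_ne_zero hn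
    have hbij : Function.Bijective fun x : C => x ^ Fintype.card (M →* rootsOfUnity n k) := by
      refine ⟨fun x y h => Subtype.ext ?_, fun y => ?_⟩
      · have h1 : (⟨x, x.2.2⟩ : N) ^ Fintype.card (M →* rootsOfUnity n k) = ⟨y, y.2.2⟩ ^
            Fintype.card (M →* rootsOfUnity n k) := Subtype.ext (congrArg (fun w : C => (w : E)) h)
        exact congrArg (fun w : N => (w : E)) ((hNpow _ hcard).1 h1)
      · obtain ⟨w, hw⟩ := (hNpow _ hcard).2 ⟨y, y.2.2⟩
        replace hw : (w : E) ^ Fintype.card (M →* rootsOfUnity n k) = y := congrArg (fun w : N => (w : E)) hw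
        refine ⟨⟨w, ?_, w.2⟩, Subtype.ext hw⟩
        refine (hcent _).2 ?_
        refine hroot _ hcard _ w.2 ?_
        rw [hw]
        exact (hcent _).1 y.2.1
    let c : (M →* rootsOfUnity n k) → C := fun χ => ⟨s' χ * (s'' χ)⁻¹, by
      refine ⟨?_, ?_⟩
      · refine (hcent _).2 ?_
        rw [map_mul, map_inv]
        exact (hs'com χ).mul_left (hs''com χ).inv_left
      · show resHom k ψ (s' χ * (s'' χ)⁻¹) = 1
        rw [map_mul, map_inv, hψs', hψs'', mul_inv_cancel]⟩
    obtain ⟨w, hw⟩ := exists_coboundary (G := M →* rootsOfUnity n k) C act hbij c fun χ χ' => Subtype.ext (by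
      show s' (χ * χ') * (s'' (χ * χ'))⁻¹ = s' χ * (s'' χ)⁻¹ * (s'' χ * (s' χ' * (s'' χ')⁻¹) * (s'' χ)⁻¹)
      have hs' : s' (χ * χ') = s' χ * s' χ' := by
        show u₁ * resHom k r' (charPt e n (χ * χ')) * u₁⁻¹ = _
        rw [map_mul, map_mul]
        show _ = u₁ * resHom k r' (charPt e n χ) * u₁⁻¹ * (u₁ * resHom k r' (charPt e n χ') * u₁⁻¹)
        group
      rw [hs', map_mul]
      group)
    refine ⟨(w : E)⁻¹ * u₁, mul_mem (inv_mem w.2.2) hu₁, ?_, fun χ => ?_⟩
    · show cstHom _ ((w : E)⁻¹ * u₁) * R' * (cstHom _ ((w : E)⁻¹ * u₁))⁻¹ = R''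
      rw [map_mul, mul_inv_rev, ← mul_assoc, mul_assoc (cstHom (MonoidAlgebra k P) (w : E)⁻¹),
        mul_assoc (cstHom (MonoidAlgebra k P) (w : E)⁻¹),
        show cstHom (MonoidAlgebra k P) u₁ * R' * (cstHom (MonoidAlgebra k P) u₁)⁻¹ = R'' from h₁, map_inv, inv_inv,
        mul_assoc, ← ((hcent w).1 w.2.1).eq, inv_mul_cancel_left]
    · show cstHom k ((w : E)⁻¹ * u₁) * resHom k r' (charPt e n χ) * (cstHom k ((w : E)⁻¹ * u₁))⁻¹ = s'' χ
      rw [cstHom_self]
      have h2 := congrArg (fun z : C => (z : E)) (hw χ)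
      replace h2 : s' χ * (s'' χ)⁻¹ = (w : E) * (s'' χ * (w : E) * (s'' χ)⁻¹)⁻¹ := h2
      have h3 : s' χ = (w : E) * s'' χ * (w : E)⁻¹ := by
        rw [← inv_mul_cancel_right (s' χ) (s'' χ), h2]
        group
      have h4 : u₁ * resHom k r' (charPt e n χ) * u₁⁻¹ = (w : E) * s'' χ * (w : E)⁻¹ := h3
      calc (w : E)⁻¹ * u₁ * resHom k r' (charPt e n χ) * ((w : E)⁻¹ * u₁)⁻¹
          = (w : E)⁻¹ * (u₁ * resHom k r' (charPt e n χ) * u₁⁻¹) * (w : E) := by group
        _ = s'' χ := by rw [h4]; group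
  -- monotonicity
  have hmono : ∀ n m : ℕ, n ∣ m → S m ⊆ S n := by
    rintro n m hnm u ⟨huN, huP, hu⟩
    refine ⟨huN, huP, fun χ => ?_⟩
    have hle : rootsOfUnity n k ≤ rootsOfUnity m k := rootsOfUnity_le_of_dvd hnm
    exact hu ((Subgroup.inclusion hle).comp χ)
  -- stabilisation
  haveI : IsNoetherianRing A := Algebra.FiniteType.isNoetherianRing k A
  let I : ℕ → Ideal A := fun n => ⨅ u ∈ S n, RingHom.ker u.ofConv
  obtain ⟨_, ⟨n₀, hn₀, rfl⟩, hmax⟩ := set_has_maximal_iff_noetherian.2 ‹IsNoetherianRing A›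
    {J | ∃ n : ℕ, (n : k) ≠ 0 ∧ I n = J} ⟨I 1, 1, by simp, rfl⟩
  obtain ⟨g, hg⟩ := hne n₀ hn₀
  have hall : ∀ n : ℕ, (n : k) ≠ 0 → g ∈ S n := by
    intro n hn
    refine hmono n (n₀ * n) (Dvd.intro_left _ rfl) ?_
    have hle : I n₀ ≤ I (n₀ * n) := le_iInf₂ fun u hu => iInf₂_le u (hmono n₀ (n₀ * n) (Dvd.intro _ rfl) hu)
    have heq : I (n₀ * n) = I n₀ := (eq_of_le_of_not_lt hle
      (hmax (I (n₀ * n)) ⟨n₀ * n, by rw [Nat.cast_mul]; exact mul_ne_zero hn₀ hn, rfl⟩)).symm
    have hkill : ∀ a : A, (∀ u ∈ S (n₀ * n), u.ofConv a = 0) → g.ofConv a = 0 := fun a ha => by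
      have h1 : a ∈ I (n₀ * n) := by
        simp only [I, Submodule.mem_iInf]
        exact ha
      rw [heq] at h1
      simp only [I, Submodule.mem_iInf] at h1
      exact h1 g hg
    refine ⟨(mem_ker_resHom_iff hJ).2 fun a ha => hkill a fun u hu => (mem_ker_resHom_iff hJ).1 hu.1 a ha,
      sat_closed _ _ (fun u hu => hu.2.1) hkill, fun χ => sat_closed _ _ (fun u hu => hu.2.2 χ) hkill⟩
  refine ⟨g, hg.1, ?_⟩
  suffices h : r'.comp (inner g) = r'' by
    rw [Conj, ← h, comp_inner]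
  refine BialgHom.ext fun a => sub_eq_zero.1 (eq_zero_of_slices e q π hπ fun n hn χ => ?_)
  obtain ⟨-, hgP, hgχ⟩ := hall n hn
  have hs : ∀ r : A →ₐc[k] B, ∀ x, slicePt e π χ (r x) =
      (resHom (MonoidAlgebra k P) r pr * cstHom (MonoidAlgebra k P) (resHom k r (charPt e n χ))).ofConv x := by
    intro r x
    have h1 : resHom (MonoidAlgebra k P) r (pr * cstHom (MonoidAlgebra k P) (charPt e n χ)) =
        resHom (MonoidAlgebra k P) r pr * cstHom (MonoidAlgebra k P) (resHom k r (charPt e n χ)) := by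
      rw [map_mul, resHom_cstHom]
    rw [← h1]
    rfl
  have hpr : resHom (MonoidAlgebra k P) (r'.comp (inner g)) pr = R'' := by
    refine Eq.trans ?_ hgP
    have h1 := congrArg (UnipSplit.push pr.ofConv) (comp_inner g r')
    rw [UnipSplit.push_mul, UnipSplit.push_mul, UnipSplit.push_inv, push_cstHom] at h1
    exact h1
  have hch : resHom k (r'.comp (inner g)) (charPt e n χ) = resHom k r'' (charPt e n χ) := by
    refine Eq.trans ?_ (hgχ χ)
    have h1 := congrArg (UnipSplit.push (charPt e n χ).ofConv) (comp_inner g r')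
    rw [UnipSplit.push_mul, UnipSplit.push_mul, UnipSplit.push_inv, push_cstHom] at h1
    exact h1
  rw [map_sub, hs, hs, hpr, hch, sub_self]

theorem projP_trivial {M : Type u} [CommGroup M] (e : B ≃ₐc[k] MonoidAlgebra k M) :
    (projP e (1 : M →* PUnit.{u + 1}) : B →ₐ[k] MonoidAlgebra k PUnit.{u + 1}) =
      (1 : WithConv (B →ₐ[k] MonoidAlgebra k PUnit.{u + 1})).ofConv := by
  refine AlgHom.ext fun b => ?_
  obtain ⟨z, rfl⟩ : ∃ z, e.symm z = b := ⟨e b, e.symm_apply_apply b⟩
  rw [AlgHom.convOne_apply, CoalgHomClass.counit_comp_apply]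
  induction z using MonoidAlgebra.induction_linear with
  | zero => simp
  | add x y hx hy => rw [map_add, map_add, map_add, map_add, hx, hy]
  | single m r => simp [projP]

/-- Conjugacy when the quotient is smooth. -/
theorem conj_of_smooth_quotient [IsAlgClosed k] [Algebra.FiniteType k A] {M : Type u} [CommGroup M] [Group.FG M]
    (e : B ≃ₐc[k] MonoidAlgebra k M) (q : ℕ) [ExpChar k q] (hq : ∀ (m : M) (i : ℕ), m ^ q ^ i = 1 → m = 1)
    (ψ : B →ₐc[k] A) (J : Ideal A) [J.IsHopfIdeal k]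
    (hJ : J = Ideal.map (ψ : B →+* A) (RingHom.ker (Bialgebra.counitAlgHom k B)))
    (hK : ∀ u : A ⧸ J, ∃ n, u ∈ UnipHopf.K k (A ⧸ J) n) (r' r'' : A →ₐc[k] B)
    (hr' : r'.comp ψ = BialgHom.id k B) (hr'' : r''.comp ψ = BialgHom.id k B) :
    ∃ u ∈ (resHom k ψ).ker, Conj u r' r'' := by
  refine conj_aux e q ψ J hJ hK (1 : M →* PUnit.{u + 1}) (fun m i hm _ => hq m i hm) r' r'' hr' hr'' 1 (one_mem _)
    ?_ fun n _ x _ _ => ?_
  · rw [Sat, map_one, one_mul, inv_one, mul_one, projP_trivial, toConv_ofConv, map_one, map_one]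
  · rw [projP_trivial, toConv_ofConv, map_one]
    exact Commute.one_right _

end UnipConjLib
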