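import Groth.Agent.UnipSplitLib.Weight
import Groth.Agent.UnipSplitLib.Main

/-!
Weight vectors detected by a given linear form.
-/

set_option autoImplicit false

noncomputable section

universe u

open TensorProduct WithConv

namespace Groth.Agent.UnipSplit

attribute [local instance] HopfFF.pointsGroup

variable {k : Type u} [Field k] {A : Type u} [CommRing A] [HopfAlgebra k A]
  {U : Type u} [CommRing U] [HopfAlgebra k U] {B : Type u} [CommRing B] [HopfAlgebra k B]
  {q : A →ₐc[k] U} {ψ : B →ₐc[k] A}

theorem Ext.exists_weight_of (h : Ext q ψ) {M : Type u} (β : Module.Basis M k B)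
    (hβ : ∀ m, CoalgebraStruct.comul (R := k) (β m) = β m ⊗ₜ[k] β m)
    {κ : U →ₐ[k] A ⊗[k] U} (hκ : κ.comp (q : A →ₐ[k] U) = Ad q) {x : U}
    (hx : CoalgebraStruct.comul (R := k) x = x ⊗ₜ[k] (1 : U) + (1 : U) ⊗ₜ[k] x)
    (v : U →ₗ[k] k) (hvx : v x ≠ 0) :
    ∃ (y : U) (m : M), v y ≠ 0 ∧ CoalgebraStruct.comul (R := k) y = y ⊗ₜ[k] (1 : U) + (1 : U) ⊗ₜ[k] y ∧
      κ y = ψ (β m) ⊗ₜ[k] y := by
  classical
  -- invariance
  have hinv : LinearMap.rTensor U (lam q).toLinearMap (κ x) =
      (TensorProduct.assoc k U A U).symm ((1 : U) ⊗ₜ[k] κ x) := by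
    apply (TensorProduct.assoc k U A U).injective
    rw [LinearEquiv.apply_symm_apply]
    let f : U →ₐ[k] U ⊗[k] (A ⊗[k] U) := Algebra.TensorProduct.includeLeft
    let i : A ⊗[k] U →ₐ[k] U ⊗[k] (A ⊗[k] U) := Algebra.TensorProduct.includeRight
    let e' : A →ₐ[k] U ⊗[k] (A ⊗[k] U) := i.comp Algebra.TensorProduct.includeLeft
    let f' : U →ₐ[k] U ⊗[k] (A ⊗[k] U) := i.comp Algebra.TensorProduct.includeRight
    let e'' := (Algebra.TensorProduct.productMap f e').comp (lam q)
    have h1 := conj_spec hκ e'' f'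
    have h2 := conj_spec hκ e' f'
    have he : toConv e'' = pull q f * toConv e' := (lam_spec q f e').symm
    rw [he] at h1
    have h1 := (conj_conj (pull q f) (toConv e') (pull q f')).symm.trans h1
    rw [h2, pull_inv, pull_mul, pull_mul] at h1
    have h3 := AlgHom.congr_fun (pull_injective h.surj h1) x
    rw [toConv_ofConv, toConv_ofConv, add_of_primitive hx, add_of_primitive hx, add_right_comm,
      add_inv_of_primitive hx, zero_add, ofConv_toConv, AlgHom.comp_apply, AlgHom.comp_apply] at h3
    have k1 : ∀ z : A ⊗[k] U, Algebra.TensorProduct.productMap e'' f' z =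
        TensorProduct.assoc k U A U (LinearMap.rTensor U (lam q).toLinearMap z) := fun z => by
      induction z using TensorProduct.induction_on with
      | zero => simp
      | add a b ha hb => simp only [map_add, ha, hb]
      | tmul p r =>
        rw [Algebra.TensorProduct.productMap_apply_tmul, AlgHom.comp_apply, LinearMap.rTensor_tmul,
          AlgHom.toLinearMap_apply]
        generalize lam q p = w
        induction w using TensorProduct.induction_on with
        | zero => simp
        | add a b ha hb => simp only [map_add, add_mul, TensorProduct.add_tmul, ha, hb]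
        | tmul a b => simp [f, e', f', i]
    have k2 : ∀ z : A ⊗[k] U, Algebra.TensorProduct.productMap e' f' z = (1 : U) ⊗ₜ[k] z := fun z => by
      induction z using TensorProduct.induction_on with
      | zero => simp
      | add a b ha hb => simp only [map_add, TensorProduct.tmul_add, ha, hb]
      | tmul p r => simp [e', f', i]
    rw [k1, k2] at h3
    exact h3.symm
  obtain ⟨w, hw⟩ := h.mem_range_rTensor_of_invariant hinv
  obtain ⟨π, hπ⟩ := LinearMap.exists_leftInverse_of_injective (ψ : B →ₐ[k] A).toLinearMap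
    (LinearMap.ker_eq_bot.2 h.inj)
  have hπ' : ∀ b, π (ψ b) = b := fun b => LinearMap.congr_fun hπ b
  let φ : M → A →ₗ[k] k := fun m => β.coord m ∘ₗ π
  let y : M → U := fun m => ComodLib.sliceL (φ m) (κ x)
  -- primitivity
  have hprim : ∀ m, CoalgebraStruct.comul (R := k) (y m) = y m ⊗ₜ[k] (1 : U) + (1 : U) ⊗ₜ[k] y m := by
    intro m
    let i : U ⊗[k] U →ₐ[k] A ⊗[k] (U ⊗[k] U) := Algebra.TensorProduct.includeRight
    let e : A →ₐ[k] A ⊗[k] (U ⊗[k] U) := Algebra.TensorProduct.includeLeft
    let f1 : U →ₐ[k] A ⊗[k] (U ⊗[k] U) := i.comp Algebra.TensorProduct.includeLeft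
    let f2 : U →ₐ[k] A ⊗[k] (U ⊗[k] U) := i.comp Algebra.TensorProduct.includeRight
    have h12 : (toConv f1 * toConv f2 : WithConv (U →ₐ[k] A ⊗[k] (U ⊗[k] U))) =
        toConv (i.comp (Bialgebra.comulAlgHom k U)) := by
      show push i (toConv _) * push i (toConv _) = push i (toConv _)
      exact (push_mul i _ _).symm.trans (congrArg (push i) (toConv_comul U).symm)
    have h1 := conj_spec hκ e ((toConv f1 * toConv f2).ofConv)
    have h2 : toConv e * pull q (toConv f1 * toConv f2).ofConv * (toConv e)⁻¹ =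
        (toConv e * pull q f1 * (toConv e)⁻¹) * (toConv e * pull q f2 * (toConv e)⁻¹) := by
      rw [← pull_mul]; exact conj_mul' (toConv e) (pull q f1) (pull q f2)
    rw [h2, conj_spec hκ, conj_spec hκ, pull_mul] at h1
    have h3 := AlgHom.congr_fun (pull_injective h.surj h1) x
    rw [add_of_primitive hx, ofConv_toConv, ofConv_toConv, h12, ofConv_toConv, AlgHom.comp_apply, AlgHom.comp_apply,
      AlgHom.comp_apply] at h3
    have k1 : ∀ z : A ⊗[k] U, Algebra.TensorProduct.productMap e (i.comp (Bialgebra.comulAlgHom k U)) z =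
        LinearMap.lTensor A (CoalgebraStruct.comul (R := k)) z := fun z => by
      induction z using TensorProduct.induction_on with
      | zero => simp
      | add a b ha hb => simp only [map_add, ha, hb]
      | tmul p r => simp [e, i]
    have k2 : ∀ z : A ⊗[k] U, Algebra.TensorProduct.productMap e f1 z + Algebra.TensorProduct.productMap e f2 z =
        LinearMap.lTensor A ((TensorProduct.mk k U U).flip 1 + TensorProduct.mk k U U 1) z := fun z => by
      induction z using TensorProduct.induction_on with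
      | zero => simp
      | add a b ha hb => simp only [map_add, ← ha, ← hb]; abel
      | tmul p r => simp [e, i, f1, f2, TensorProduct.tmul_add]
    rw [k1, k2] at h3
    have h4 := congrArg (ComodLib.sliceL (φ m)) h3
    rw [ComodLib.sliceL_lTensor, ComodLib.sliceL_lTensor] at h4
    exact h4.symm
  -- the weight equation
  have hwt : ∀ m, κ (y m) = ψ (β m) ⊗ₜ[k] y m := by
    intro m
    let i : A ⊗[k] U →ₐ[k] A ⊗[k] (A ⊗[k] U) := Algebra.TensorProduct.includeRight
    let e1 : A →ₐ[k] A ⊗[k] (A ⊗[k] U) := Algebra.TensorProduct.includeLeft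
    let e2 : A →ₐ[k] A ⊗[k] (A ⊗[k] U) := i.comp Algebra.TensorProduct.includeLeft
    let f : U →ₐ[k] A ⊗[k] (A ⊗[k] U) := i.comp Algebra.TensorProduct.includeRight
    let e12 : A →ₐ[k] A ⊗[k] (A ⊗[k] U) := (toConv e1 * toConv e2).ofConv
    have h1 := conj_spec hκ e12 f
    have h2 : toConv e12 * pull q f * (toConv e12)⁻¹ =
        toConv e1 * (toConv e2 * pull q f * (toConv e2)⁻¹) * (toConv e1)⁻¹ := by
      rw [show toConv e12 = toConv e1 * toConv e2 from toConv_ofConv _]; exact conj_conj (toConv e1) (toConv e2) (pull q f)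
    rw [h2, conj_spec hκ, conj_spec hκ] at h1
    have h3 := AlgHom.congr_fun (pull_injective h.surj h1) x
    rw [AlgHom.comp_apply, AlgHom.comp_apply] at h3
    have k1 : ∀ z : A ⊗[k] U, Algebra.TensorProduct.productMap e1
        ((Algebra.TensorProduct.productMap e2 f).comp κ) z = LinearMap.lTensor A κ.toLinearMap z := fun z => by
      induction z using TensorProduct.induction_on with
      | zero => simp
      | add a b ha hb => simp only [map_add, ha, hb]
      | tmul p r =>
        rw [Algebra.TensorProduct.productMap_apply_tmul, AlgHom.comp_apply, LinearMap.lTensor_tmul,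
          AlgHom.toLinearMap_apply]
        generalize κ r = v
        induction v using TensorProduct.induction_on with
        | zero => simp
        | add a b ha hb => simp only [map_add, mul_add, TensorProduct.tmul_add, ha, hb]
        | tmul a b => simp [e1, e2, f, i]
    have k2 : ∀ z : A ⊗[k] U, Algebra.TensorProduct.productMap e12 f z =
        TensorProduct.assoc k A A U (LinearMap.rTensor U (CoalgebraStruct.comul (R := k)) z) := fun z => by
      induction z using TensorProduct.induction_on with
      | zero => simp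
      | add a b ha hb => simp only [map_add, ha, hb]
      | tmul p r =>
        rw [Algebra.TensorProduct.productMap_apply_tmul, LinearMap.rTensor_tmul]
        show (toConv e1 * toConv e2) p * f r = _
        rw [AlgHom.convMul_apply]
        generalize Coalgebra.comul (R := k) p = v
        induction v using TensorProduct.induction_on with
        | zero => simp
        | add a b ha hb => simp only [map_add, add_mul, TensorProduct.add_tmul, ha, hb]
        | tmul a b => simp [e1, e2, f, i]
    rw [k1, k2, ← hw] at h3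
    have h4 := congrArg (ComodLib.sliceL (φ m)) h3
    rw [ComodLib.sliceL_lTensor, hw] at h4
    refine h4.trans ?_
    have key : ∀ b, ComodLib.sliceL (φ m) (CoalgebraStruct.comul (R := k) (ψ b)) = φ m (ψ b) • ψ (β m) := by
      intro b
      have : ComodLib.sliceL (φ m) ∘ₗ CoalgebraStruct.comul ∘ₗ (ψ : B →ₐ[k] A).toLinearMap =
          (φ m ∘ₗ (ψ : B →ₐ[k] A).toLinearMap).smulRight (ψ (β m)) := β.ext fun j => by
        show ComodLib.sliceL (φ m) (CoalgebraStruct.comul (R := k) (ψ (β j))) = φ m (ψ (β j)) • ψ (β m)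
        rw [← CoalgHomClass.map_comp_comul_apply ψ, hβ, TensorProduct.map_tmul, ComodLib.sliceL_tmul]
        show φ m (ψ (β j)) • ψ (β j) = _
        rcases eq_or_ne j m with rfl | hne
        · rfl
        · have h0 : φ m (ψ (β j)) = 0 := by simp [φ, hπ', hne.symm]
          rw [h0, zero_smul, zero_smul]
      exact LinearMap.congr_fun this b
    show ComodLib.sliceL (φ m) (TensorProduct.assoc k A A U
      (LinearMap.rTensor U (CoalgebraStruct.comul (R := k)) (κ x))) = ψ (β m) ⊗ₜ[k] ComodLib.sliceL (φ m) (κ x)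
    rw [← hw]
    clear hw h4 h3
    induction w using TensorProduct.induction_on with
    | zero => simp
    | add a b ha hb => simp only [map_add, TensorProduct.tmul_add, ha, hb]
    | tmul a r =>
      obtain ⟨_, b, rfl⟩ := a
      rw [LinearMap.rTensor_tmul, LinearMap.rTensor_tmul, ComodLib.sliceL_tmul, TensorProduct.tmul_smul]
      show ComodLib.sliceL (φ m) (TensorProduct.assoc k A A U (CoalgebraStruct.comul (R := k) (ψ b) ⊗ₜ[k] r)) =
        φ m (ψ b) • ψ (β m) ⊗ₜ[k] r
      rw [TensorProduct.smul_tmul', ← key]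
      generalize CoalgebraStruct.comul (R := k) (ψ b) = v
      induction v using TensorProduct.induction_on with
      | zero => simp
      | add a b ha hb => simp only [map_add, TensorProduct.add_tmul, ha, hb]
      | tmul a b => simp [TensorProduct.smul_tmul']
  -- nonvanishing
  by_contra hne
  push Not at hne
  have hy0 : ∀ m, v (y m) = 0 := fun m => by
    by_contra h0
    exact hne (y m) m h0 (hprim m) (hwt m)
  apply hvx
  let W := LinearMap.range (ψ : B →ₐ[k] A).toLinearMap
  obtain ⟨b, hb⟩ : ComodLib.slice v (κ x) ∈ W := ComodLib.slice_mem_of_mem_range W v ⟨w, hw⟩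
  have hswap : ∀ (f : A →ₗ[k] k) (z : A ⊗[k] U), v (ComodLib.sliceL f z) = f (ComodLib.slice v z) := fun f z => by
    induction z using TensorProduct.induction_on with
    | zero => simp
    | add p r hp hr => simp only [map_add, hp, hr]
    | tmul p r => simp [mul_comm]
  have hcoord : ∀ m, β.coord m b = 0 := fun m => by
    have e1 : φ m (ComodLib.slice v (κ x)) = 0 := by rw [← hswap]; exact hy0 m
    rw [← hb] at e1
    show β.coord m b = 0
    have e2 : β.coord m (π (ψ b)) = 0 := e1
    rwa [hπ'] at e2
  have hb0 : ComodLib.slice v (κ x) = 0 := by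
    rw [← hb, β.forall_coord_eq_zero_iff.1 hcoord, map_zero]
  have h1 := conj_spec hκ ((1 : WithConv (A →ₐ[k] U)).ofConv) (AlgHom.id k U)
  rw [toConv_ofConv, one_mul, inv_one, mul_one] at h1
  have h3 := AlgHom.congr_fun (pull_injective h.surj h1) x
  rw [AlgHom.id_apply, AlgHom.comp_apply] at h3
  have hε : ∀ z : A ⊗[k] U, Algebra.TensorProduct.productMap (1 : WithConv (A →ₐ[k] U)).ofConv (AlgHom.id k U) z =
      ComodLib.sliceL (CoalgebraStruct.counit (R := k)) z := fun z => by
    induction z using TensorProduct.induction_on with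
    | zero => simp
    | add p r hp hr => simp only [map_add, hp, hr]
    | tmul p r =>
      rw [Algebra.TensorProduct.productMap_apply_tmul, ComodLib.sliceL_tmul, AlgHom.convOne_apply, AlgHom.id_apply,
        Algebra.smul_def]
  rw [h3, hε, hswap, hb0, map_zero]

/-- The data of an extension from a quotient by the augmentation ideal. -/
theorem Ext.of_ideal (ψ : B →ₐc[k] A) (hψ : Function.Injective ψ) (J : Ideal A) [J.IsHopfIdeal k]
    (hJ : J = Ideal.map (ψ : B →+* A) (RingHom.ker (Bialgebra.counitAlgHom k B))) :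
    Ext (Bialgebra.Quotient.mkBialgHom (R := k) J) ψ where
  surj := Ideal.Quotient.mk_surjective
  inj := hψ
  comp b := by
    show Ideal.Quotient.mk J (ψ b) = _
    rw [← Ideal.Quotient.mk_algebraMap, Ideal.Quotient.eq]
    have : ψ b - algebraMap k A (Coalgebra.counit (R := k) b) =
        ψ (b - algebraMap k B (Coalgebra.counit (R := k) b)) := by rw [map_sub, AlgHomClass.commutes]
    rw [this, hJ]
    exact Ideal.mem_map_of_mem (ψ : B →+* A) (RingHom.mem_ker.2 (by simp))
  ker a ha := by
    rw [← hJ]
    exact Ideal.Quotient.eq_zero_iff_mem.1 ha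

/-- Crossed homomorphisms extending a weight vector of the kernel. -/
theorem Ext.exists_crossed_diag [IsAlgClosed k] (hB : SGA3b.IsDiag k B) (h : Ext q ψ)
    {κ : U →ₐ[k] A ⊗[k] U} (hκ : κ.comp (q : A →ₐ[k] U) = Ad q) {x : U}
    (hx : CoalgebraStruct.comul (R := k) x = x ⊗ₜ[k] (1 : U) + (1 : U) ⊗ₜ[k] x)
    {g₀ : B} (hg₀ : IsGroupLikeElem k g₀) (hgx : κ x = ψ g₀ ⊗ₜ[k] x) :
    ∃ a : A, lam q a = x ⊗ₜ[k] (1 : A) + (1 : U) ⊗ₜ[k] a ∧
      CoalgebraStruct.comul (R := k) a = a ⊗ₜ[k] (1 : A) + ψ g₀ ⊗ₜ[k] a := by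
  obtain ⟨M, β, l₀, hgl, hl1, hl₀⟩ := exists_basis_integral hB
  obtain ⟨π, hπ⟩ := LinearMap.exists_leftInverse_of_injective (ψ : B →ₐ[k] A).toLinearMap
    (LinearMap.ker_eq_bot.2 h.inj)
  have hπ' : ∀ b, π (ψ b) = b := fun b => LinearMap.congr_fun hπ b
  have hl1' : (l₀ ∘ₗ π) 1 = 1 := by rw [LinearMap.comp_apply, ← map_one ψ, hπ', hl1]
  have hl : ∀ b, ComodLib.slice (l₀ ∘ₗ π) (CoalgebraStruct.comul (R := k) (ψ b)) = (l₀ ∘ₗ π) (ψ b) • (1 : A) := by
    intro b
    rw [← CoalgHomClass.map_comp_comul_apply ψ, LinearMap.comp_apply, hπ']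
    have key : ∀ z : B ⊗[k] B, ComodLib.slice (l₀ ∘ₗ π) (TensorProduct.map (ψ : B →ₗ[k] A) (ψ : B →ₗ[k] A) z) =
        ψ (ComodLib.slice l₀ z) := fun z => by
      induction z using TensorProduct.induction_on with
      | zero => simp
      | add x y hx hy => simp only [map_add, hx, hy]
      | tmul p r => simp [hπ']
    rw [key, hl₀, map_smul, map_one]
  obtain ⟨a, ha, hΔ, -⟩ := h.exists_crossed hl1' hl hκ hx hg₀ hgx
  exact ⟨a, ha, hΔ⟩

end Groth.Agent.UnipSplit
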